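import Cfsg.Agent.NoDivDegrees.Trick

/-!
# The complement of the derived subgroup of `K`
-/

set_option autoImplicit false
set_option linter.style.haveILetI false
set_option linter.unusedSectionVars false

namespace CfsgLib.NoDivDegrees.LOne

open CfsgLib.Characters CfsgLib.OddOrderChar CfsgLib.CharactersDeep
open scoped commutatorElement

universe u

variable {G : Type u} [Group G]

/-- `R` complements `⁅K, K⁆`, `R ⊓ K = (R ⊓ K0 K) × M`, and `D` is the centraliser in `R` of a generator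
modulo `K`. -/
structure Frame (K : Subgroup G) [K.Normal] (R M D : Subgroup G) : Prop where
  sup : ∀ g : G, ∃ c ∈ ⁅K, K⁆, ∃ r ∈ R, g = c * r
  inf : ∀ g ∈ R, g ∈ ⁅K, K⁆ → g = 1
  comm : ∀ a ∈ R, a ∈ K → ∀ b ∈ R, b ∈ K → a * b = b * a
  central : ∀ b ∈ R, b ∈ K0 K → ∀ r ∈ R, r * b = b * r
  M_le : M ≤ R ⊓ K
  M_conj : ∀ r ∈ R, ∀ m ∈ M, r * m * r⁻¹ ∈ M
  M_K0 : ∀ m ∈ M, m ∈ K0 K → m = 1
  M_card : Nat.card M = (K0 K).relIndex K
  split : ∀ a ∈ R, a ∈ K → ∃ b ∈ R ⊓ K0 K, ∃ m ∈ M, a = b * m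
  M_fpf : ∀ t ∈ R, t ∉ K → ∀ m ∈ M, t * m = m * t → m = 1
  D_le : D ≤ R
  D_comm : ∀ a ∈ D, ∀ b ∈ D, a * b = b * a
  D_K : ∀ d ∈ D, d ∈ K → d ∈ K0 K
  D_conj : ∀ t ∈ R, t ∉ K → ∃ m ∈ M, m * t * m⁻¹ ∈ D
  fpf : ∀ a ∈ K, a ∉ K0 K → ∀ W : Subgroup G, W ≤ ⁅K, K⁆ → (∀ w ∈ W, a * w * a⁻¹ ∈ W) →
    ∀ x ∈ ⁅K, K⁆, x⁻¹ * (a * x * a⁻¹) ∈ W → x ∈ W
  coprime : ((K0 K).relIndex K).Coprime (Nat.card (⁅K, K⁆ : Subgroup G))

variable [Fintype G] {K : Subgroup G} [K.Normal]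

/-- A coset of an invariant subgroup of order prime to `p` contains a fixed element. -/
theorem exists_comm_in_coset {p i m : ℕ} [Fact p.Prime] {a x : G} (hg : orderOf (a ^ m) = p ^ i)
    {W : Subgroup G} (hW : ∀ w ∈ W, a * w * a⁻¹ ∈ W) (hx : x⁻¹ * (a * x * a⁻¹) ∈ W)
    (hp : ¬ p ∣ Nat.card W) : ∃ z, x⁻¹ * z ∈ W ∧ a ^ m * z = z * a ^ m := by
  classical
  let S := {z : G // x⁻¹ * z ∈ W}
  have hcard : Nat.card S = Nat.card W :=
    Nat.card_congr ((Equiv.mulLeft x⁻¹).subtypeEquiv fun _ => Iff.rfl)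
  let f : Function.End S := fun z => ⟨a * z.1 * a⁻¹, by
    simpa [mul_assoc] using W.mul_mem hx (hW _ z.2)⟩
  have hit : ∀ (j : ℕ) (z : S), ((f ^ j : Function.End S) z : S).1 = a ^ j * z.1 * (a ^ j)⁻¹ := by
    intro j
    induction j with
    | zero => intro z; simp; rfl
    | succ j ih =>
      intro z
      rw [pow_succ' f j]
      show a * ((f ^ j : Function.End S) z).1 * a⁻¹ = _
      rw [ih, pow_succ' a j]
      group
  have hF : (f ^ m) ^ p ^ i = 1 := funext fun z => Subtype.ext (by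
    rw [← pow_mul, hit, pow_mul, ← hg, pow_orderOf_eq_one, one_mul, inv_one, mul_one]; rfl)
  haveI := Fintype.ofFinite S
  have hmod := Equiv.Perm.card_fixedPoints_modEq hF
  have hne : Fintype.card (f ^ m).fixedPoints ≠ 0 := fun h0 => hp (by
    rw [← hcard, Nat.card_eq_fintype_card]
    rw [h0] at hmod
    exact Nat.modEq_zero_iff_dvd.1 hmod)
  obtain ⟨⟨z, hz⟩⟩ := Fintype.card_pos_iff.1 (Nat.pos_of_ne_zero hne)
  have h2 := congrArg Subtype.val (show (f ^ m : Function.End S) z = z from hz)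
  rw [hit] at h2
  exact ⟨z.1, z.2, mul_inv_eq_iff_eq_mul.1 h2⟩

/-- An element of `K` outside `K0` has a power of prime power order outside `K0`. -/
theorem exists_ppow {a : G} (ha : a ∈ K) (ha0 : a ∉ K0 K) :
    ∃ p m i : ℕ, p.Prime ∧ p ∣ (K0 K).relIndex K ∧ orderOf (a ^ m) = p ^ i ∧ a ^ m ∉ K0 K := by
  classical
  haveI : ((K0 K).subgroupOf K).Normal := Subgroup.normal_subgroupOf
  let x : K ⧸ (K0 K).subgroupOf K := QuotientGroup.mk' _ ⟨a, ha⟩
  have hx : orderOf x ≠ 1 := fun h => ha0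
    (Subgroup.mem_subgroupOf.1 ((QuotientGroup.eq_one_iff _).1 (orderOf_eq_one_iff.1 h)))
  obtain ⟨p, hp, hpd⟩ := Nat.exists_prime_and_dvd hx
  have hdvd : orderOf x ∣ orderOf a :=
    (orderOf_map_dvd _ _).trans (by rw [Subgroup.orderOf_mk])
  obtain ⟨i, m, hpm, hm⟩ := Nat.exists_eq_pow_mul_and_not_dvd
    (orderOf_pos a).ne' p hp.ne_one
  refine ⟨p, m, i, hp, hpd.trans (orderOf_dvd_natCard x |>.trans ?_), ?_, fun h0 => hpm ?_⟩
  · rw [← Subgroup.index_eq_card]; exact dvd_rfl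
  · rw [orderOf_pow' a (by rintro rfl; exact hpm (dvd_zero p)), hm,
      Nat.gcd_eq_right (dvd_mul_left m _)]
    exact Nat.mul_div_cancel _ (Nat.pos_of_ne_zero (by rintro rfl; exact hpm (dvd_zero p)))
  · refine hpd.trans (orderOf_dvd_of_pow_eq_one ?_)
    show (QuotientGroup.mk' _ (⟨a, ha⟩ : K)) ^ m = 1
    rw [← map_pow, QuotientGroup.mk'_apply, QuotientGroup.eq_one_iff, Subgroup.mem_subgroupOf]
    simpa using h0

variable (B : Base K)
  (h : ∀ p : ℕ, p.Prime → p ∣ (K0 K).relIndex K → ¬ p ∣ Nat.card (⁅K, K⁆ : Subgroup G))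

include B h

/-- Elements of `K` outside `K0` centralise no nontrivial element of `⁅K, K⁆`. -/
theorem eq_one_of_comm {a c : G} (ha : a ∈ K) (ha0 : a ∉ K0 K) (hc : c ∈ ⁅K, K⁆)
    (hac : a * c = c * a) : c = 1 := by
  classical
  haveI := Fintype.ofFinite K
  obtain ⟨p, m, i, hp, hpd, hord, hg0⟩ := exists_ppow ha ha0
  haveI := Fact.mk hp
  set g := a ^ m with hg
  have hgK : g ∈ K := K.pow_mem ha m
  have hcom : ∀ x : G, x ∈ ⁅K, K⁆ → ∃ x' : K, (x' : G) = x ∧ x' ∈ commutator K := fun x hx => by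
    rw [← Subgroup.map_subtype_commutator K] at hx
    obtain ⟨x', hx', e⟩ := hx
    exact ⟨x', e, hx'⟩
  let C := Subgroup.centralizer ({(⟨g, hgK⟩ : K)} : Set K)
  let f : C → K ⧸ commutator K := fun z => QuotientGroup.mk (z : K)
  have hsurj : Function.Surjective f := fun q => by
    obtain ⟨x, rfl⟩ := QuotientGroup.mk_surjective q
    obtain ⟨z, hz, hzg⟩ := exists_comm_in_coset hord (W := ⁅K, K⁆) (x := (x : G))
      (fun w hw => (inferInstance : (⁅K, K⁆).Normal).conj_mem w hw a)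
      (by
        have := Subgroup.commutator_mem_commutator (K.inv_mem x.2) ha
        simpa [commutatorElement_def, mul_assoc] using this) (h p hp hpd)
    have hzK : z ∈ K := by
      simpa using K.mul_mem x.2 (Subgroup.commutator_le_self K hz)
    refine ⟨⟨⟨z, hzK⟩, Subgroup.mem_centralizer_singleton_iff.2 (Subtype.ext hzg.symm)⟩, ?_⟩
    refine QuotientGroup.eq.2 ?_
    obtain ⟨w, hw, hw'⟩ := hcom _ hz
    have e : w = x⁻¹ * (⟨z, hzK⟩ : K) := Subtype.ext (by simpa using hw)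
    show (⟨z, hzK⟩ : K)⁻¹ * x ∈ commutator K
    rw [show (⟨z, hzK⟩ : K)⁻¹ * x = w⁻¹ by rw [e, mul_inv_rev, inv_inv]]
    exact (commutator K).inv_mem hw'
  have hbij : Function.Bijective f := (Nat.bijective_iff_surjective_and_card f).2
    ⟨hsurj, (B.card_centralizer (k := (⟨g, hgK⟩ : K)) hg0).trans (Subgroup.index_eq_card _)⟩
  obtain ⟨c', rfl, hc'⟩ := hcom c hc
  have hcC : c' ∈ C := Subgroup.mem_centralizer_singleton_iff.2 (Subtype.ext
    ((Commute.pow_left (hac : Commute a (c' : G)) m).eq.symm))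
  have h1 : (⟨c', hcC⟩ : C) = 1 :=
    hbij.1 (((QuotientGroup.eq_one_iff c').2 hc').trans (QuotientGroup.mk_one _).symm)
  exact congrArg (fun z : C => ((z : K) : G)) h1

omit h in
/-- `⁅K, K⁆` and a centraliser outside `K0` fill `K`. -/
theorem exists_decomp_K (h1 : ∀ {a c : G}, a ∈ K → a ∉ K0 K → c ∈ ⁅K, K⁆ → a * c = c * a → c = 1)
    {g : G} (hgK : g ∈ K) (hg0 : g ∉ K0 K) (k : G) (hk : k ∈ K) :
    ∃ c ∈ ⁅K, K⁆, ∃ α ∈ K ⊓ Subgroup.centralizer {g}, k = c * α := by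
  classical
  haveI := Fintype.ofFinite K
  let C := Subgroup.centralizer ({(⟨g, hgK⟩ : K)} : Set K)
  let f : C → K ⧸ commutator K := fun z => QuotientGroup.mk (z : K)
  have hinj : Function.Injective f := fun x y hxy => by
    have hw := QuotientGroup.eq.1 (hxy : ((x : K) : K ⧸ commutator K) = ((y : K) : K ⧸ commutator K))
    have hmem : (((x : K)⁻¹ * (y : K) : K) : G) ∈ ⁅K, K⁆ :=
      Subgroup.map_subtype_commutator K ▸ Subgroup.mem_map_of_mem _ hw
    have hc := Subgroup.mem_centralizer_singleton_iff.1 (C.mul_mem (C.inv_mem x.2) y.2)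
    exact Subtype.ext (inv_mul_eq_one.1 (Subtype.ext
      (h1 hgK hg0 hmem (congrArg Subtype.val hc).symm)))
  obtain ⟨z, hz⟩ := ((Nat.bijective_iff_injective_and_card f).2
    ⟨hinj, (B.card_centralizer (k := (⟨g, hgK⟩ : K)) hg0).trans (Subgroup.index_eq_card _)⟩).2
      (QuotientGroup.mk (⟨k, hk⟩ : K))
  have hw : ((((z : K)⁻¹ * ⟨k, hk⟩ : K) : K) : G) ∈ ⁅K, K⁆ :=
    Subgroup.map_subtype_commutator K ▸ Subgroup.mem_map_of_mem _
      (QuotientGroup.eq.1 (hz : ((z : K) : K ⧸ commutator K) = ((⟨k, hk⟩ : K) : K ⧸ commutator K)))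
  refine ⟨k * ((z : K) : G)⁻¹, ?_, ((z : K) : G), ⟨(z : K).2, ?_⟩, by group⟩
  · have := (inferInstance : (⁅K, K⁆).Normal).conj_mem _ hw ((z : K) : G)
    simpa [mul_assoc] using this
  · show ((z : K) : G) ∈ Subgroup.centralizer {g}
    rw [Subgroup.mem_centralizer_singleton_iff]
    exact congrArg Subtype.val (Subgroup.mem_centralizer_singleton_iff.1 z.2)

theorem exists_frame : ∃ R M D : Subgroup G, Frame K R M D := by
  classical
  set N := ⁅K, K⁆ with hN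
  haveI hNn : N.Normal := inferInstance
  have hf : ∀ {a c : G}, a ∈ K → a ∉ K0 K → c ∈ N → a * c = c * a → c = 1 :=
    fun ha ha0 hc hac => eq_one_of_comm B h ha ha0 hc hac
  obtain ⟨g, hgK, hg0⟩ : ∃ g ∈ K, g ∉ K0 K := by
    by_contra hall
    push Not at hall
    exact B.K0_lt (le_antisymm (K0_le K) hall)
  set A := K ⊓ Subgroup.centralizer ({g} : Set G) with hA
  have memA : ∀ {x : G}, x ∈ A ↔ x ∈ K ∧ x * g = g * x := fun {x} => by
    rw [hA, Subgroup.mem_inf, Subgroup.mem_centralizer_singleton_iff]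
  have hgA : g ∈ A := memA.2 ⟨hgK, rfl⟩
  have hAN : ∀ {x : G}, x ∈ A → x ∈ N → x = 1 := fun hx hx' =>
    hf hgK hg0 hx' (memA.1 hx).2.symm
  have hAc : ∀ a ∈ A, ∀ b ∈ A, a * b = b * a := fun a ha b hb => by
    rw [← commutatorElement_eq_one_iff_mul_comm]
    refine hAN ?_ (Subgroup.commutator_mem_commutator (memA.1 ha).1 (memA.1 hb).1)
    rw [commutatorElement_def]
    exact A.mul_mem (A.mul_mem (A.mul_mem ha hb) (A.inv_mem ha)) (A.inv_mem hb)
  have hdec := exists_decomp_K B hf hgK hg0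
  -- every element of `A` outside `K0` has centraliser `A` in `K`
  have hcen : ∀ a ∈ A, a ∉ K0 K → ∀ k ∈ K, k * a = a * k → k ∈ A := fun a ha ha0 k hk hka => by
    obtain ⟨c, hc, α, hα, rfl⟩ := hdec k hk
    have e : a * c = c * a := by
      refine mul_right_cancel (b := α) ?_
      calc a * c * α = c * α * a := by rw [mul_assoc, ← hka]
        _ = c * a * α := by rw [mul_assoc, mul_assoc, hAc α hα a ha]
    rwa [hf (memA.1 ha).1 ha0 hc e, one_mul]
  set R := Subgroup.normalizer (A : Set G) with hR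
  have hAR : A ≤ R := Subgroup.le_normalizer
  have hsup : ∀ x : G, ∃ c ∈ N, ∃ r ∈ R, x = c * r := by
    intro x
    have hxg : x * g * x⁻¹ ∈ K := (‹K.Normal›).conj_mem g hgK x
    obtain ⟨c₀, hc₀, a, ha, he⟩ := hdec _ hxg
    have ha0 : a ∉ K0 K := fun ha0 => hg0 (by
      have h1 : x * g * x⁻¹ ∈ K0 K := he ▸ (K0 K).mul_mem (commutator_le_K0 K hc₀) ha0
      simpa [mul_assoc] using (K0_normal K).conj_mem _ h1 x⁻¹)
    let e : N → N := fun c => ⟨(c : G) * (a * (c : G)⁻¹ * a⁻¹),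
      N.mul_mem c.2 (hNn.conj_mem _ (N.inv_mem c.2) a)⟩
    have hinj : Function.Injective e := fun c c' hcc => by
      have h2 : (c : G) * (a * (c : G)⁻¹ * a⁻¹) = c' * (a * (c' : G)⁻¹ * a⁻¹) :=
        congrArg Subtype.val hcc
      refine Subtype.ext (inv_mul_eq_one.1 (hf (memA.1 ha).1 ha0 (N.mul_mem (N.inv_mem c.2) c'.2) ?_))
      calc a * ((c : G)⁻¹ * c') = (c : G)⁻¹ * ((c : G) * (a * (c : G)⁻¹ * a⁻¹)) * a * c' := by group
        _ = (c : G)⁻¹ * ((c' : G) * (a * (c' : G)⁻¹ * a⁻¹)) * a * c' := by rw [h2]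
        _ = (c : G)⁻¹ * c' * a := by group
    obtain ⟨c, hc⟩ := Finite.injective_iff_surjective.1 hinj ⟨c₀, hc₀⟩
    have hc' : (c : G) * (a * (c : G)⁻¹ * a⁻¹) = c₀ := congrArg Subtype.val hc
    have hxa : (c : G)⁻¹ * x * g * ((c : G)⁻¹ * x)⁻¹ = a := by
      calc (c : G)⁻¹ * x * g * ((c : G)⁻¹ * x)⁻¹ = (c : G)⁻¹ * (x * g * x⁻¹) * c := by group
        _ = (c : G)⁻¹ * ((c : G) * (a * (c : G)⁻¹ * a⁻¹) * a) * c := by rw [he, hc']
        _ = a := by group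
    refine ⟨c, c.2, (c : G)⁻¹ * x, Subgroup.mem_normalizer_iff.2 fun z => ?_, by group⟩
    set r := (c : G)⁻¹ * x
    constructor
    · intro hz
      refine hcen a ha ha0 _ ((‹K.Normal›).conj_mem z (memA.1 hz).1 r) ?_
      calc r * z * r⁻¹ * a = r * z * r⁻¹ * (r * g * r⁻¹) := by rw [hxa]
        _ = r * (z * g) * r⁻¹ := by group
        _ = r * (g * z) * r⁻¹ := by rw [(memA.1 hz).2]
        _ = r * g * r⁻¹ * (r * z * r⁻¹) := by group
        _ = a * (r * z * r⁻¹) := by rw [hxa]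
    · intro hz
      refine memA.2 ⟨by simpa [mul_assoc] using (‹K.Normal›).conj_mem _ (memA.1 hz).1 r⁻¹, ?_⟩
      have h2 : r * z * r⁻¹ * (r * g * r⁻¹) = r * g * r⁻¹ * (r * z * r⁻¹) := by
        rw [hxa]; exact hAc _ hz a ha
      calc z * g = r⁻¹ * (r * z * r⁻¹ * (r * g * r⁻¹)) * r := by group
        _ = r⁻¹ * (r * g * r⁻¹ * (r * z * r⁻¹)) * r := by rw [h2]
        _ = g * z := by group
  have hinf : ∀ x ∈ R, x ∈ N → x = 1 := fun x hx hxN => hf hgK hg0 hxN (by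
    have h1 : x * g * x⁻¹ ∈ A := (Subgroup.mem_normalizer_iff.1 hx g).1 hgA
    have h2 : x * g * x⁻¹ * g⁻¹ ∈ N := by
      rw [mul_assoc x g, mul_assoc x]
      exact N.mul_mem hxN (hNn.conj_mem _ (N.inv_mem hxN) g)
    have h3 := hAN (A.mul_mem h1 (A.inv_mem hgA)) h2
    rw [mul_inv_eq_one, mul_inv_eq_iff_eq_mul] at h3
    exact h3.symm)
  have hRK : ∀ x ∈ R, x ∈ K → x ∈ A := fun x hx hxK => by
    obtain ⟨c, hc, α, hα, rfl⟩ := hdec x hxK
    have hcR : c ∈ R := by simpa using R.mul_mem hx (R.inv_mem (hAR hα))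
    rwa [hinf c hcR hc, one_mul]
  have hcentral : ∀ b ∈ R, b ∈ K0 K → ∀ r ∈ R, r * b = b * r := fun b hb hb0 r hr => by
    rw [← commutatorElement_eq_one_iff_mul_comm]
    refine hinf _ ?_ (((mem_K0 K).1 hb0).2 r)
    rw [commutatorElement_def]
    exact R.mul_mem (R.mul_mem (R.mul_mem hr hb) (R.inv_mem hr)) (R.inv_mem hb)
  -- a generator modulo `K`, inside `R`
  obtain ⟨g₀, hg₀, -, hgen⟩ := B.exists_gen
  obtain ⟨c₁, hc₁, y, hy, hyg⟩ := hsup g₀
  have hmk : (g₀ : G ⧸ K) = (y : G ⧸ K) := by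
    rw [hyg, QuotientGroup.mk_mul, (QuotientGroup.eq_one_iff c₁).2 (Subgroup.commutator_le_self K hc₁),
      one_mul]
  have hyK : y ∉ K := fun hy' => hg₀ (by rwa [← QuotientGroup.eq_one_iff, hmk, QuotientGroup.eq_one_iff])
  have hygen : ∀ r ∈ R, ∃ j : ℤ, r * (y ^ j)⁻¹ ∈ A := fun r hr => by
    obtain ⟨j, hj⟩ := hgen r
    refine ⟨j, hRK _ (R.mul_mem hr (R.inv_mem (R.zpow_mem hy j))) ?_⟩
    rw [← QuotientGroup.eq_one_iff] at hj ⊢
    simpa [hmk] using hj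
  have hcommA : ∀ r ∈ R, ∀ α ∈ A, ⁅r, α⁆ ∈ A := fun r hr α hα => by
    rw [commutatorElement_def]
    exact A.mul_mem ((Subgroup.mem_normalizer_iff.1 hr α).1 hα) (A.inv_mem hα)
  let d : A →* G := MonoidHom.mk' (fun α => ⁅y, (α : G)⁆) fun α β => by
    show ⁅y, (α : G) * β⁆ = ⁅y, (α : G)⁆ * ⁅y, (β : G)⁆
    rw [show ⁅y, (α : G) * β⁆ = ⁅y, (α : G)⁆ * ((α : G) * ⁅y, (β : G)⁆ * (α : G)⁻¹) by
        simp only [commutatorElement_def]; group,
      hAc α α.2 _ (hcommA y hy β β.2), mul_inv_cancel_right]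
  have hd : ∀ α : A, d α = ⁅y, (α : G)⁆ := fun _ => rfl
  have hdK0 : ∀ α : A, d α ∈ K0 K ↔ (α : G) ∈ K0 K := fun α =>
    ⟨fun h0 => B.mem_K0_of_comm hyK (memA.1 α.2).1 h0, fun h0 => commutator_le_K0 K (((mem_K0 K).1 h0).2 y)⟩
  have hker : d.ker = (K0 K).subgroupOf A := by
    ext α
    rw [MonoidHom.mem_ker, Subgroup.mem_subgroupOf, hd, commutatorElement_eq_one_iff_mul_comm]
    exact ⟨fun h0 => (hdK0 α).1 (by
        rw [hd, commutatorElement_eq_one_iff_mul_comm.2 h0]; exact one_mem _),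
      fun h0 => hcentral _ (hAR α.2) h0 y hy⟩
  set M := d.range with hM
  have hMA : M ≤ A := by
    rintro _ ⟨α, rfl⟩
    exact hcommA y hy α α.2
  have hMK0 : ∀ m ∈ M, m ∈ K0 K → m = 1 := by
    rintro _ ⟨α, rfl⟩ h0
    exact MonoidHom.mem_ker.1 (hker ▸ Subgroup.mem_subgroupOf.2 ((hdK0 α).1 h0))
  have hMc : ∀ r ∈ R, ∀ m ∈ M, r * m * r⁻¹ ∈ M := by
    rintro r hr _ ⟨α, rfl⟩
    have hα' : r * (α : G) * r⁻¹ ∈ A := (Subgroup.mem_normalizer_iff.1 hr _).1 α.2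
    refine ⟨⟨_, hα'⟩, ?_⟩
    have hry : ⁅r, y⁆ ∈ A := hRK _ (by
      rw [commutatorElement_def]
      exact R.mul_mem (R.mul_mem (R.mul_mem hr hy) (R.inv_mem hr)) (R.inv_mem hy)) (B.comm_mem r y)
    rw [hd, hd]
    set β := r * (α : G) * r⁻¹ with hβ
    have e1 : r * ⁅y, (α : G)⁆ * r⁻¹ = ⁅⁅r, y⁆ * y, β⁆ := by
      simp only [commutatorElement_def, hβ]; group
    have e2 : ∀ u v w : G, ⁅u * v, w⁆ = u * ⁅v, w⁆ * u⁻¹ * ⁅u, w⁆ := fun u v w => by
      simp only [commutatorElement_def]; group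
    rw [e1, e2, hAc _ hry _ (hcommA y hy β hα'), mul_inv_cancel_right,
      commutatorElement_eq_one_iff_mul_comm.2 (hAc _ hry _ hα'), mul_one]
  have hcardM : Nat.card M = (K0 K).relIndex K := by
    haveI : ((K0 K).subgroupOf K).Normal := Subgroup.normal_subgroupOf
    let q : A →* K ⧸ (K0 K).subgroupOf K :=
      (QuotientGroup.mk' _).comp (Subgroup.inclusion (inf_le_left : A ≤ K))
    have hq : q.ker = (K0 K).subgroupOf A := by
      ext α
      simp [q, Subgroup.mem_subgroupOf]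
    have hqs : Function.Surjective q := fun z => by
      obtain ⟨k, rfl⟩ := QuotientGroup.mk_surjective z
      obtain ⟨c, hc, α, hα, e⟩ := hdec k k.2
      refine ⟨⟨α, hα⟩, QuotientGroup.eq.2 ?_⟩
      rw [Subgroup.mem_subgroupOf]
      have e2 : (((Subgroup.inclusion (inf_le_left : A ≤ K) ⟨α, hα⟩)⁻¹ * k : K) : G) = α⁻¹ * c * α := by
        simp [e, mul_assoc]
      rw [e2]
      exact commutator_le_K0 K (by simpa [mul_assoc] using hNn.conj_mem c hc α⁻¹)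
    rw [hM, ← Subgroup.index_ker, hker, ← hq, Subgroup.index_ker, MonoidHom.range_eq_top.2 hqs,
      Subgroup.card_top, ← Subgroup.index_eq_card]
    rfl
  have hfpfM : ∀ t ∈ R, t ∉ K → ∀ m ∈ M, t * m = m * t → m = 1 := fun t _ htK m hm htm =>
    hMK0 m hm (B.mem_K0_of_comm htK (memA.1 (hMA hm)).1
      (by rw [commutatorElement_eq_one_iff_mul_comm.2 htm]; exact one_mem _))
  have hsplit : ∀ a ∈ R, a ∈ K → ∃ b ∈ R ⊓ K0 K, ∃ m ∈ M, a = b * m := by
    intro a ha haK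
    let e : M → M := fun m => ⟨d ⟨m, hMA m.2⟩, ⟨_, rfl⟩⟩
    have he : Function.Injective e := fun m m' hmm => by
      have h0 : (⟨m, hMA m.2⟩ : A)⁻¹ * ⟨m', hMA m'.2⟩ ∈ d.ker := by
        rw [MonoidHom.mem_ker, map_mul, map_inv, inv_mul_eq_one]
        exact congrArg Subtype.val hmm
      rw [hker, Subgroup.mem_subgroupOf] at h0
      exact Subtype.ext (inv_mul_eq_one.1 (hMK0 _ (M.mul_mem (M.inv_mem m.2) m'.2) (by simpa using h0)))
    obtain ⟨m, hm⟩ := Finite.injective_iff_surjective.1 he ⟨d ⟨a, hRK a ha haK⟩, ⟨_, rfl⟩⟩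
    have h0 : (⟨a, hRK a ha haK⟩ : A) * (⟨m, hMA m.2⟩ : A)⁻¹ ∈ d.ker := by
      rw [MonoidHom.mem_ker, map_mul, map_inv, mul_inv_eq_one]
      exact (congrArg Subtype.val hm).symm
    rw [hker, Subgroup.mem_subgroupOf] at h0
    exact ⟨a * (m : G)⁻¹, ⟨R.mul_mem ha (R.inv_mem (hAR (hMA m.2))), by simpa using h0⟩, m, m.2,
      by group⟩
  refine ⟨R, M, R ⊓ Subgroup.centralizer ({y} : Set G),
    ⟨hsup, hinf, fun a ha haK b hb hbK => hAc a (hRK a ha haK) b (hRK b hb hbK), hcentral,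
      fun m hm => ⟨hAR (hMA hm), (memA.1 (hMA hm)).1⟩, hMc, hMK0, hcardM, hsplit, hfpfM, inf_le_left,
      ?_, ?_, ?_, ?_, Nat.coprime_of_dvd fun p hp h1 h2 => h p hp h1 h2⟩⟩
  · intro x hx z hz
    obtain ⟨j, hj⟩ := hygen x hx.1
    set α := x * (y ^ j)⁻¹ with hα
    have hxy : Commute x y := Subgroup.mem_centralizer_singleton_iff.1 hx.2
    have hzy : Commute z y := Subgroup.mem_centralizer_singleton_iff.1 hz.2
    have hαy : Commute α y := by
      rw [hα]; exact hxy.mul_left ((Commute.refl y).zpow_left j).inv_left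
    have hα0 : α ∈ K0 K := B.mem_K0_of_comm hyK (memA.1 hj).1 (by
      rw [commutatorElement_eq_one_iff_mul_comm.2 hαy.eq.symm]; exact one_mem _)
    have h1 : Commute z α := hcentral α (hAR hj) hα0 z hz.1
    have h2 : Commute z (α * y ^ j) := h1.mul_right (hzy.zpow_right j)
    rw [hα, inv_mul_cancel_right] at h2
    exact h2.eq.symm
  · intro x hx hxK
    exact B.mem_K0_of_comm hyK hxK (by
      rw [commutatorElement_eq_one_iff_mul_comm.2
        (Subgroup.mem_centralizer_singleton_iff.1 hx.2).symm]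
      exact one_mem _)
  · intro t ht htK
    obtain ⟨j, hj⟩ := hygen t ht
    obtain ⟨b, hb, m₁, hm₁, hbm⟩ := hsplit _ (hAR hj) (memA.1 hj).1
    let e : M → M := fun m => ⟨(m : G) * (t * (m : G)⁻¹ * t⁻¹),
      M.mul_mem m.2 (hMc t ht _ (M.inv_mem m.2))⟩
    have he : Function.Injective e := fun m m' hmm => by
      have h2 : (m : G) * (t * (m : G)⁻¹ * t⁻¹) = m' * (t * (m' : G)⁻¹ * t⁻¹) :=
        congrArg Subtype.val hmm
      refine Subtype.ext (inv_mul_eq_one.1 (hfpfM t ht htK _ (M.mul_mem (M.inv_mem m.2) m'.2) ?_))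
      calc t * ((m : G)⁻¹ * m') = (m : G)⁻¹ * ((m : G) * (t * (m : G)⁻¹ * t⁻¹)) * t * m' := by group
        _ = (m : G)⁻¹ * ((m' : G) * (t * (m' : G)⁻¹ * t⁻¹)) * t * m' := by rw [h2]
        _ = (m : G)⁻¹ * m' * t := by group
    obtain ⟨m, hm⟩ := Finite.injective_iff_surjective.1 he ⟨m₁⁻¹, M.inv_mem hm₁⟩
    have hm' : (m : G) * (t * (m : G)⁻¹ * t⁻¹) = m₁⁻¹ := congrArg Subtype.val hm
    refine ⟨m, m.2, ?_⟩
    have e1 : (m : G) * t * (m : G)⁻¹ = b * y ^ j := by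
      calc (m : G) * t * (m : G)⁻¹ = (m : G) * (t * (m : G)⁻¹ * t⁻¹) * t := by group
        _ = m₁⁻¹ * (t * (y ^ j)⁻¹) * y ^ j := by rw [hm']; group
        _ = b * y ^ j := by
          rw [hbm, hcentral b hb.1 hb.2 m₁ (hAR (hMA hm₁)) |>.symm, inv_mul_cancel_left]
    rw [e1]
    refine ⟨R.mul_mem hb.1 (R.zpow_mem hy j), ?_⟩
    show b * y ^ j ∈ Subgroup.centralizer {y}
    rw [Subgroup.mem_centralizer_singleton_iff]
    exact ((Commute.symm (hcentral b hb.1 hb.2 y hy : Commute y b)).mul_left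
      ((Commute.refl y).zpow_left j)).eq
  · intro a haK ha0 W hWN hW x hxN hx
    obtain ⟨p, m, i, hp, hpd, hord, ham⟩ := exists_ppow haK ha0
    haveI := Fact.mk hp
    obtain ⟨z, hz, hzc⟩ := exists_comm_in_coset hord hW hx
      fun hdvd => h p hp hpd (hdvd.trans (Subgroup.card_dvd_of_le hWN))
    have hzN : z ∈ N := by simpa using N.mul_mem hxN (hWN hz)
    rw [hf (K.pow_mem haK m) ham hzN hzc, mul_one] at hz
    simpa using W.inv_mem hz

end CfsgLib.NoDivDegrees.LOne
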