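import Cfsg.Agent.NoDivDegrees.LOne.Fixed
import Cfsg.Agent.NoDivDegrees.LOne.Frame

/-!
# The second derived subgroup as unique minimal normal subgroup inside the first
-/

set_option autoImplicit false
set_option linter.style.haveILetI false
set_option linter.unusedSectionVars false

namespace CfsgLib.NoDivDegrees.LOne

open scoped commutatorElement

universe u

variable {G : Type u} [Group G] [Fintype G] {K : Subgroup G} [K.Normal]

variable [Group.IsSolvable G] (hU : ⁅⁅K, K⁆, ⁅K, K⁆⁆ ≠ (⊥ : Subgroup G))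
  (hmin : ∀ W : Subgroup G, W.Normal → W ≤ ⁅K, K⁆ → W ≠ ⊥ → ⁅⁅K, K⁆, ⁅K, K⁆⁆ ≤ W)

include hU hmin

theorem second_comm (u : G) (hu : u ∈ ⁅⁅K, K⁆, ⁅K, K⁆⁆) (v : G) (hv : v ∈ ⁅⁅K, K⁆, ⁅K, K⁆⁆) :
    u * v = v * u := by
  set U := ⁅⁅K, K⁆, ⁅K, K⁆⁆
  haveI : U.Normal := inferInstance
  have hlt : ⁅U, U⁆ < U := Group.IsSolvable.commutator_lt_of_ne_bot hU
  have h1 : ⁅U, U⁆ = ⊥ := by_contra fun h => hlt.not_ge
    (hmin _ inferInstance (hlt.le.trans (Subgroup.commutator_le_self _)) h)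
  rw [← commutatorElement_eq_one_iff_mul_comm, ← Subgroup.mem_bot, ← h1]
  exact Subgroup.commutator_mem_commutator hu hv

theorem second_exponent : ∃ q : ℕ, q.Prime ∧ ∀ u ∈ ⁅⁅K, K⁆, ⁅K, K⁆⁆, u ^ q = 1 := by
  classical
  set U := ⁅⁅K, K⁆, ⁅K, K⁆⁆ with hUdef
  have hcard : Nat.card U ≠ 1 := fun h => hU (Subgroup.card_eq_one.1 h)
  obtain ⟨q, hq, hqd⟩ := Nat.exists_prime_and_dvd hcard
  haveI := Fact.mk hq
  refine ⟨q, hq, ?_⟩
  let W : Subgroup G :=
    { carrier := {u | u ∈ U ∧ u ^ q = 1}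
      one_mem' := ⟨one_mem _, one_pow q⟩
      mul_mem' := fun {a b} ha hb => ⟨U.mul_mem ha.1 hb.1, by
        rw [(show Commute a b from second_comm hU hmin a ha.1 b hb.1).mul_pow, ha.2, hb.2, one_mul]⟩
      inv_mem' := fun {a} ha => ⟨U.inv_mem ha.1, by rw [inv_pow, ha.2, inv_one]⟩ }
  have hW : W.Normal := ⟨fun u hu g =>
    ⟨(inferInstance : U.Normal).conj_mem u hu.1 g, by rw [conj_pow, hu.2, mul_one, mul_inv_cancel]⟩⟩
  obtain ⟨u, hu⟩ := exists_prime_orderOf_dvd_card' q hqd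
  have hne : W ≠ ⊥ := fun h => hq.ne_one (by
    have h1 : (u : G) ∈ W := ⟨u.2, by
      rw [← hu, ← Subgroup.orderOf_coe, pow_orderOf_eq_one]⟩
    rw [h, Subgroup.mem_bot] at h1
    rw [← hu, ← Subgroup.orderOf_coe, h1, orderOf_one])
  exact fun v hv => (hmin W hW (fun w hw => Subgroup.commutator_le_self _ hw.1) hne hv).2

/-- `⁅K, K⁆` centralises its derived subgroup. -/
theorem second_central (B : Base K) {R M D : Subgroup G} (F : Frame K R M D) :
    ∀ x ∈ ⁅K, K⁆, ∀ u ∈ ⁅⁅K, K⁆, ⁅K, K⁆⁆, x * u = u * x := by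
  classical
  obtain ⟨q, hq, hexp⟩ := second_exponent hU hmin
  haveI := Fact.mk hq
  have hab := second_comm hU hmin
  set N := ⁅K, K⁆ with hN
  set U := ⁅N, N⁆ with hUdef
  have hUN : U ≤ N := Subgroup.commutator_le_self _
  letI : CommGroup U := { (inferInstance : Group U) with
    mul_comm := fun a b => Subtype.ext (hab a a.2 b b.2) }
  let φ : G →* MulAut U := MulAut.conjNormal
  haveI : Finite (MulAut U) := Finite.of_injective (fun e => (e : U → U)) DFunLike.coe_injective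
  have hφ : ∀ (g : G) (u : U), (φ g u : G) = g * u * g⁻¹ := fun g u => MulAut.conjNormal_apply g u
  have hφ1 : ∀ (g : G) (u : U), φ g u = u ↔ g * (u : G) = u * g := fun g u => by
    rw [Subtype.ext_iff, hφ, mul_inv_eq_iff_eq_mul]
  -- the image of `N` is abelian
  have hEc : ∀ x ∈ N, ∀ y ∈ N, φ x * φ y = φ y * φ x := fun x hx y hy => by
    rw [← commutatorElement_eq_one_iff_mul_comm, ← map_commutatorElement]
    exact MulEquiv.ext fun u => (hφ1 _ u).2 (hab _ (Subgroup.commutator_mem_commutator hx hy) u u.2)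
  -- the part of exponent `q` is trivial
  let P : Subgroup G :=
    { carrier := {x | x ∈ N ∧ φ x ^ q = 1}
      one_mem' := ⟨one_mem _, by rw [map_one, one_pow]⟩
      mul_mem' := fun {a b} ha hb => ⟨N.mul_mem ha.1 hb.1, by
        rw [map_mul, (show Commute (φ a) (φ b) from hEc a ha.1 b hb.1).mul_pow, ha.2, hb.2, one_mul]⟩
      inv_mem' := fun {a} ha => ⟨N.inv_mem ha.1, by rw [map_inv, inv_pow, ha.2, inv_one]⟩ }
  have hPn : ∀ g : G, ∀ x ∈ P, g * x * g⁻¹ ∈ P := fun g x hx =>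
    ⟨(inferInstance : N.Normal).conj_mem x hx.1 g, by
      rw [map_mul, map_mul, map_inv, conj_pow, hx.2, mul_one, mul_inv_cancel]⟩
  have hfix : ∃ u : U, u ≠ 1 ∧ ∀ x ∈ P, φ x u = u := by
    have hPq : IsPGroup q (P.map φ) := by
      rintro ⟨_, x, hx, rfl⟩
      exact ⟨1, Subtype.ext (by simpa using hx.2)⟩
    haveI : Fintype U := Fintype.ofFinite U
    obtain ⟨n, hn⟩ := IsPGroup.iff_card.1 (show IsPGroup q U from fun u => ⟨1, Subtype.ext (by
      simpa using hexp u u.2)⟩)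
    have hn0 : n ≠ 0 := fun h => hU (Subgroup.card_eq_one.1 (by rw [hn, h, pow_zero]))
    obtain ⟨u, hu, hu1⟩ := hPq.exists_fixed_point_of_prime_dvd_card_of_fixed_point U
      (hn ▸ dvd_pow_self q hn0) (a := (1 : U)) (fun e => map_one (e : MulAut U))
    exact ⟨u, hu1.symm, fun x hx => hu ⟨φ x, x, hx, rfl⟩⟩
  have hP1 : ∀ x ∈ P, φ x = 1 := by
    obtain ⟨u, hu1, hu⟩ := hfix
    let W : Subgroup G :=
      { carrier := {w | w ∈ U ∧ ∀ x ∈ P, x * w = w * x}
        one_mem' := ⟨one_mem _, fun x _ => by rw [mul_one, one_mul]⟩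
        mul_mem' := fun {a b} ha hb => ⟨U.mul_mem ha.1 hb.1, fun x hx =>
          (show Commute x (a * b) from Commute.mul_right (ha.2 x hx) (hb.2 x hx))⟩
        inv_mem' := fun {a} ha => ⟨U.inv_mem ha.1, fun x hx =>
          (show Commute x a⁻¹ from Commute.inv_right (ha.2 x hx))⟩ }
    have hW : W.Normal := ⟨fun w hw g => ⟨(inferInstance : U.Normal).conj_mem w hw.1 g, fun x hx => by
      have h1 := hw.2 _ (hPn g⁻¹ x hx)
      calc x * (g * w * g⁻¹) = g * (g⁻¹ * x * g⁻¹⁻¹ * w) * g⁻¹ := by group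
        _ = g * (w * (g⁻¹ * x * g⁻¹⁻¹)) * g⁻¹ := by rw [h1]
        _ = g * w * g⁻¹ * x := by group⟩⟩
    have hne : W ≠ ⊥ := fun h => hu1 (Subtype.ext (Subgroup.mem_bot.1 (h ▸
      (⟨u.2, fun x hx => (hφ1 x u).1 (hu x hx)⟩ : (u : G) ∈ W))))
    exact fun x hx => MulEquiv.ext fun w =>
      (hφ1 x w).2 ((hmin W hW (fun w hw => hUN hw.1) hne w.2).2 x hx)
  have hcopE : ¬ q ∣ Nat.card (N.map φ) := fun hd => by
    obtain ⟨⟨_, x, hx, rfl⟩, he⟩ := exists_prime_orderOf_dvd_card' q hd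
    rw [← Subgroup.orderOf_coe] at he
    change orderOf (φ x) = q at he
    have h1 : φ x = 1 := hP1 x ⟨hx, by rw [← he, pow_orderOf_eq_one]⟩
    rw [h1, orderOf_one] at he
    exact hq.ne_one he.symm
  -- either `N` centralises, or it fixes nothing
  by_contra hcon
  have hM : ∀ w : U, (∀ e ∈ N.map φ, e w = w) → w = 1 := by
    intro w hw
    by_contra hw1
    let W : Subgroup G :=
      { carrier := {z | z ∈ U ∧ ∀ x ∈ N, x * z = z * x}
        one_mem' := ⟨one_mem _, fun x _ => by rw [mul_one, one_mul]⟩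
        mul_mem' := fun {a b} ha hb => ⟨U.mul_mem ha.1 hb.1, fun x hx =>
          (show Commute x (a * b) from Commute.mul_right (ha.2 x hx) (hb.2 x hx))⟩
        inv_mem' := fun {a} ha => ⟨U.inv_mem ha.1, fun x hx =>
          (show Commute x a⁻¹ from Commute.inv_right (ha.2 x hx))⟩ }
    have hW : W.Normal := ⟨fun z hz g => ⟨(inferInstance : U.Normal).conj_mem z hz.1 g, fun x hx => by
      have h1 := hz.2 _ ((inferInstance : N.Normal).conj_mem x hx g⁻¹)
      calc x * (g * z * g⁻¹) = g * (g⁻¹ * x * g⁻¹⁻¹ * z) * g⁻¹ := by group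
        _ = g * (z * (g⁻¹ * x * g⁻¹⁻¹)) * g⁻¹ := by rw [h1]
        _ = g * z * g⁻¹ * x := by group⟩⟩
    have hne : W ≠ ⊥ := fun h => hw1 (Subtype.ext (Subgroup.mem_bot.1 (h ▸
      (⟨w.2, fun x hx => (hφ1 x w).1 (hw _ ⟨x, hx, rfl⟩)⟩ : (w : G) ∈ W))))
    exact hcon fun x hx u hu => (hmin W hW (fun z hz => hUN hz.1) hne hu).2 x hx
  obtain ⟨m, hm, hm0⟩ : ∃ m ∈ M, m ∉ K0 K := by
    by_contra hall
    push Not at hall
    have h1 : M = ⊥ := (Subgroup.eq_bot_iff_forall M).2 fun m hm => F.M_K0 m hm (hall m hm)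
    have h2 := F.M_card
    rw [h1, Subgroup.card_bot] at h2
    exact B.K0_lt (le_antisymm (K0_le K) (Subgroup.relIndex_eq_one.1 h2.symm))
  obtain ⟨v, hv, hvfix⟩ := exists_fixed (MonoidHom.id (MulAut U)) (N.map φ) ((Subgroup.zpowers m).map φ)
    (by
      rintro _ ⟨t, -, rfl⟩ _ ⟨x, hx, rfl⟩
      exact ⟨t * x * t⁻¹, (inferInstance : N.Normal).conj_mem x hx t, by rw [map_mul, map_mul, map_inv]⟩)
    (by
      rintro _ ⟨t, ht, rfl⟩ ht1 _ ⟨x, hx, rfl⟩ hc
      have htM : t ∈ M := Subgroup.zpowers_le.2 hm ht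
      have ht0 : t ∉ K0 K := fun h => ht1 (by rw [F.M_K0 t htM h, map_one])
      have hx' : x ∈ N ⊓ φ.ker := F.fpf t (F.M_le htM).2 ht0 _ inf_le_left
        (fun w hw => ⟨(inferInstance : N.Normal).conj_mem w hw.1 t,
          (inferInstance : φ.ker.Normal).conj_mem w hw.2 t⟩) x hx
        ⟨N.mul_mem (N.inv_mem hx) ((inferInstance : N.Normal).conj_mem x hx t), MonoidHom.mem_ker.2 (by
          rw [map_mul, map_mul, map_mul, map_inv, map_inv, hc, mul_inv_cancel_right, inv_mul_cancel])⟩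
      exact MonoidHom.mem_ker.1 hx'.2)
    hM
    (fun w hw => by
      refine orderOf_eq_one_iff.1 (Nat.eq_one_of_dvd_coprimes
        ((hq.coprime_iff_not_dvd.2 hcopE).symm) (orderOf_dvd_of_pow_eq_one hw)
        (orderOf_dvd_of_pow_eq_one (Subtype.ext ?_)))
      simpa using hexp w w.2)
    (by
      by_contra hall
      push Not at hall
      exact hU ((Subgroup.eq_bot_iff_forall U).2 fun u hu => congrArg Subtype.val (hall ⟨u, hu⟩)))
  refine hv (Subtype.ext (Subgroup.mem_bot.1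
    (F.fpf m (F.M_le hm).2 hm0 ⊥ bot_le (fun w hw => ?_) v (hUN v.2) ?_)))
  · rw [Subgroup.mem_bot.1 hw, mul_one, mul_inv_cancel]; exact one_mem _
  · have h1 : φ m v = v := hvfix _ ⟨m, Subgroup.mem_zpowers m, rfl⟩
    rw [hφ1] at h1
    rw [h1, mul_inv_cancel_right, inv_mul_cancel]
    exact one_mem _

end CfsgLib.NoDivDegrees.LOne
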