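import Cfsg.Agent.SameDegree.Basic
import Cfsg.Agent.TwoComponents73.Setup
import Cfsg.Agent.CharactersDeep.Clifford

/-!
# The radical of a linear character of a central derived subgroup
-/

set_option autoImplicit false
set_option linter.style.haveILetI false
set_option linter.unusedSectionVars false

namespace CfsgLib.NoDivDegrees.LOne

open CfsgLib.Characters CfsgLib.OddOrderChar CfsgLib.CharactersDeep
open scoped commutatorElement

universe u

variable {H : Type u} [Group H]

/-- The commutator as element of the derived subgroup. -/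
def pr (x w : H) : commutator H :=
  ⟨⁅x, w⁆, Subgroup.commutator_mem_commutator (Subgroup.mem_top x) (Subgroup.mem_top w)⟩

theorem pr_swap (x w : H) : pr w x = (pr x w)⁻¹ := Subtype.ext (commutatorElement_inv x w).symm

section Central

variable (hc : ∀ x : H, ∀ u ∈ commutator H, x * u = u * x)

include hc

theorem pr_mul_left (x y w : H) : pr (x * y) w = pr x w * pr y w := Subtype.ext (by
  show ⁅x * y, w⁆ = ⁅x, w⁆ * ⁅y, w⁆
  have h1 : ⁅x * y, w⁆ = x * ⁅y, w⁆ * x⁻¹ * ⁅x, w⁆ := by simp only [commutatorElement_def]; group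
  have e1 : x * ⁅y, w⁆ = ⁅y, w⁆ * x := hc x _ (pr y w).2
  have e2 : ⁅y, w⁆ * ⁅x, w⁆ = ⁅x, w⁆ * ⁅y, w⁆ := hc _ _ (pr x w).2
  rw [h1, e1, mul_inv_cancel_right, e2])

theorem pr_mul_right (x w z : H) : pr x (w * z) = pr x w * pr x z := by
  rw [pr_swap (w * z) x, pr_mul_left hc, mul_inv_rev, ← pr_swap, ← pr_swap]
  exact Subtype.ext (hc _ _ (pr x w).2)

theorem pr_of_mem {u : H} (hu : u ∈ commutator H) (w : H) : pr u w = 1 := Subtype.ext (by
  show ⁅u, w⁆ = 1
  rw [commutatorElement_eq_one_iff_mul_comm, hc w u hu])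

/-- The radical of a linear character. -/
def rad (μ : commutator H →* ℂˣ) : Subgroup H where
  carrier := {x | ∀ w, μ (pr x w) = 1}
  one_mem' w := by
    rw [show pr (1 : H) w = 1 from Subtype.ext (commutatorElement_one_left w), map_one]
  mul_mem' {a b} ha hb w := by rw [pr_mul_left hc, map_mul, ha w, hb w, one_mul]
  inv_mem' {a} ha w := by
    have h : μ (pr (a⁻¹ * a) w) = μ (pr a⁻¹ w) * μ (pr a w) := by rw [pr_mul_left hc, map_mul]
    rw [ha w, mul_one, inv_mul_cancel,
      show pr (1 : H) w = 1 from Subtype.ext (commutatorElement_one_left w), map_one] at h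
    exact h.symm

theorem mem_rad {μ : commutator H →* ℂˣ} {x : H} : x ∈ rad hc μ ↔ ∀ w, μ (pr x w) = 1 := Iff.rfl

theorem commutator_le_rad (μ : commutator H →* ℂˣ) : commutator H ≤ rad hc μ := fun u hu w => by
  rw [pr_of_mem hc hu, map_one]

theorem rad_normal (μ : commutator H →* ℂˣ) : (rad hc μ).Normal :=
  Subgroup.Normal.of_commutator_le _ (commutator_le_rad hc μ)

theorem mem_kernel_of_commutator_rad (μ : commutator H →* ℂˣ) {c : rad hc μ}
    (h : c ∈ commutator (rad hc μ)) : ∃ hm : (c : H) ∈ commutator H, μ ⟨c, hm⟩ = 1 := by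
  have hle : commutator (rad hc μ) ≤ (μ.ker.map (commutator H).subtype).subgroupOf (rad hc μ) := by
    rw [commutator_def, Subgroup.commutator_le]
    intro x _ y _
    exact ⟨pr (x : H) y, x.2 y, rfl⟩
  obtain ⟨z, hz, hzc⟩ := hle h
  replace hzc : (z : H) = c := hzc
  exact ⟨hzc ▸ z.2, by rw [← show z = ⟨c, hzc ▸ z.2⟩ from Subtype.ext hzc]; exact hz⟩

/-- A linear character of the derived subgroup extends to its radical. -/
theorem exists_ext [Fintype H] (μ : commutator H →* ℂˣ) :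
    ∃ ν : rad hc μ →* ℂˣ, ∀ u : commutator H, ν ⟨u, commutator_le_rad hc μ u.2⟩ = μ u := by
  classical
  let ι : commutator H →* rad hc μ := Subgroup.inclusion (commutator_le_rad hc μ)
  haveI : ι.range.Normal := ⟨by
    rintro _ ⟨u, rfl⟩ g
    exact ⟨u, Subtype.ext (by
      show (u : H) = g * u * (g : H)⁻¹
      rw [hc g u u.2, mul_inv_cancel_right])⟩⟩
  haveI := Fintype.ofFinite (rad hc μ)
  haveI := Fintype.ofFinite ι.range
  haveI := Fintype.ofFinite (commutator H)
  let e : commutator H ≃* ι.range := MonoidHom.ofInjective (Subgroup.inclusion_injective _)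
  let lam : ι.range →* ℂˣ := μ.comp e.symm.toMonoidHom
  have hlam : ∀ u, lam (e u) = μ u := fun u => by simp [lam]
  obtain ⟨χ, hχ, hne⟩ := CharactersDeep.Clifford.exists_over ι.range (isIrr_linChar lam)
  obtain ⟨k, hk, hres, -⟩ := CharactersDeep.Clifford.restrict_eq_smul ι.range hχ (isIrr_linChar lam)
    (fun g => funext fun x => congrArg (fun z => ((lam z : ℂˣ) : ℂ)) (Subtype.ext (by
      obtain ⟨_, u, rfl⟩ := x
      refine Subtype.ext ?_
      show (g : H) * u * (g : H)⁻¹ = u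
      rw [hc g u u.2, mul_inv_cancel_right]))) hne
  have hval : ∀ u : commutator H, χ (ι u) = (k : ℂ) * (μ u : ℂ) := fun u => by
    have h1 := congrFun hres (e u)
    simp only [Pi.smul_apply, smul_eq_mul, hlam] at h1
    exact h1
  have h1 : χ 1 = (k : ℂ) := by
    have h := hval 1
    rwa [map_one, map_one, Units.val_one, mul_one] at h
  have hlin : χ 1 = 1 := SameDegree.degree_one_of_commutator_le hχ fun c hcc => by
    obtain ⟨hm, hμ⟩ := mem_kernel_of_commutator_rad hc μ hcc
    rw [show c = ι ⟨c, hm⟩ from Subtype.ext rfl, hval, hμ, Units.val_one, mul_one, h1]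
  obtain ⟨ν, rfl⟩ := exists_hom_of_degree_one (isCharacter_of_isIrr hχ) hlin
  refine ⟨ν, fun u => Units.ext ?_⟩
  have h2 := hval u
  rwa [← h1, hlin, one_mul] at h2

/-- An automorphism fixing the derived subgroup preserves the radical. -/
theorem map_mem_rad {μ : commutator H →* ℂˣ} (β : MulAut H) (hβ : ∀ u ∈ commutator H, β u = u)
    {x : H} (hx : x ∈ rad hc μ) : β x ∈ rad hc μ := fun w => by
  rw [show pr (β x) w = pr x (β.symm w) from Subtype.ext ?_, hx]
  show ⁅β x, w⁆ = ⁅x, β.symm w⁆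
  have e : β ⁅x, β.symm w⁆ = ⁅x, β.symm w⁆ := hβ _ (pr x (β.symm w)).2
  rwa [map_commutatorElement, MulEquiv.apply_symm_apply] at e

/-- An automorphism without fixed points above the derived subgroup fixes at most one extension. -/
theorem ext_eq [Finite H] {μ : commutator H →* ℂˣ} (β : MulAut H)
    (hβ : ∀ u ∈ commutator H, β u = u) (hfpf : ∀ x, x⁻¹ * β x ∈ commutator H → x ∈ commutator H)
    {ν ν' : rad hc μ →* ℂˣ}
    (h : ∀ u : commutator H, ν ⟨u, commutator_le_rad hc μ u.2⟩ = μ u)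
    (h' : ∀ u : commutator H, ν' ⟨u, commutator_le_rad hc μ u.2⟩ = μ u)
    (hν : ∀ x : rad hc μ, ν ⟨β x, map_mem_rad hc β hβ x.2⟩ = ν x)
    (hν' : ∀ x : rad hc μ, ν' ⟨β x, map_mem_rad hc β hβ x.2⟩ = ν' x) : ν = ν' := by
  classical
  let q : rad hc μ →* Abelianization H := Abelianization.of.comp (rad hc μ).subtype
  let g : rad hc μ →* Abelianization H := MonoidHom.mk'
    (fun x => (q x)⁻¹ * q ⟨β x, map_mem_rad hc β hβ x.2⟩) fun x y => by
      rw [show (⟨β (x * y : rad hc μ), map_mem_rad hc β hβ (x * y).2⟩ : rad hc μ) =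
        ⟨β x, map_mem_rad hc β hβ x.2⟩ * ⟨β y, map_mem_rad hc β hβ y.2⟩ from
          Subtype.ext (map_mul β (x : H) y), map_mul, map_mul, mul_inv, mul_mul_mul_comm]
  have hq : ∀ x, q x = 1 ↔ (x : H) ∈ commutator H := fun x => by
    rw [← MonoidHom.mem_ker, show q.ker = (commutator H).subgroupOf (rad hc μ) by
      ext y; simp [q, Subgroup.mem_subgroupOf, ← Abelianization.ker_of], Subgroup.mem_subgroupOf]
  have hgr : g.range ≤ q.range := by
    rintro _ ⟨x, rfl⟩
    exact ⟨x⁻¹ * ⟨β x, map_mem_rad hc β hβ x.2⟩, by rw [map_mul, map_inv]; rfl⟩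
  have hker : g.ker = q.ker := by
    ext x
    constructor
    · intro hx
      rw [MonoidHom.mem_ker] at hx ⊢
      change (q x)⁻¹ * q ⟨β x, map_mem_rad hc β hβ x.2⟩ = 1 at hx
      rw [← map_inv, ← map_mul, hq] at hx
      exact (hq x).2 (hfpf _ hx)
    · intro hx
      rw [MonoidHom.mem_ker] at hx ⊢
      show (q x)⁻¹ * q ⟨β x, map_mem_rad hc β hβ x.2⟩ = 1
      rw [hx, inv_one, one_mul, hq]
      show β x ∈ commutator H
      rw [hβ _ ((hq x).1 hx)]
      exact (hq x).1 hx
  haveI : Finite (Abelianization H) := Quotient.finite _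
  have heq : g.range = q.range := Subgroup.eq_of_le_of_card_ge hgr
    (by rw [← Subgroup.index_ker, ← Subgroup.index_ker, hker])
  refine MonoidHom.ext fun y => ?_
  obtain ⟨x, hx⟩ : q y ∈ g.range := by rw [heq]; exact ⟨y, rfl⟩
  have hxy : q ((x⁻¹ * ⟨β x, map_mem_rad hc β hβ x.2⟩)⁻¹ * y) = 1 := by
    rw [map_mul, map_inv, map_mul, map_inv, inv_mul_eq_one]
    exact hx
  have hu := (hq _).1 hxy
  have key : ∀ (l : rad hc μ →* ℂˣ), (∀ u : commutator H, l ⟨u, commutator_le_rad hc μ u.2⟩ = μ u) →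
      (∀ z : rad hc μ, l ⟨β z, map_mem_rad hc β hβ z.2⟩ = l z) → l y = μ ⟨_, hu⟩ := fun l hl hlβ => by
    have h1 : l ((x⁻¹ * ⟨β x, map_mem_rad hc β hβ x.2⟩)⁻¹ * y) = μ ⟨_, hu⟩ := hl ⟨_, hu⟩
    rwa [map_mul, map_inv, map_mul, map_inv, hlβ, inv_mul_cancel, inv_one, one_mul] at h1
  rw [key ν h hν, key ν' h' hν']

/-- If the extension to the radical is unique the radical is the derived subgroup. -/
theorem rad_le_of_unique [Finite H] (μ : commutator H →* ℂˣ)
    (h : ∀ ν ν' : rad hc μ →* ℂˣ,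
      (∀ u : commutator H, ν ⟨u, commutator_le_rad hc μ u.2⟩ = μ u) →
      (∀ u : commutator H, ν' ⟨u, commutator_le_rad hc μ u.2⟩ = μ u) → ν = ν') :
    rad hc μ ≤ commutator H := by
  classical
  haveI := Fintype.ofFinite H
  intro x hx
  by_contra hxc
  obtain ⟨ν, hν⟩ := exists_ext hc μ
  obtain ⟨l, hl, hlx⟩ := TwoComponents73.exists_lin ((commutator H).subgroupOf (rad hc μ))
    (fun c hcc => Subgroup.mem_subgroupOf.2 (mem_kernel_of_commutator_rad hc μ hcc).1)
    (a := ⟨x, hx⟩) (fun hm => hxc (Subgroup.mem_subgroupOf.1 hm))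
  have h1 := DFunLike.congr_fun (h ν (ν * l) hν fun u => by
    rw [MonoidHom.mul_apply, hl ⟨u, commutator_le_rad hc μ u.2⟩ (Subgroup.mem_subgroupOf.2 u.2), mul_one,
      hν]) ⟨x, hx⟩
  rw [MonoidHom.mul_apply, left_eq_mul] at h1
  exact hlx h1

end Central

end CfsgLib.NoDivDegrees.LOne
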