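import Cfsg.Agent.NoDivDegrees.LOne.Orbits
import Cfsg.Agent.NoDivDegrees.LOne.Minimal
import Cfsg.Agent.NoDivDegrees.LOne.Pairing
import Cfsg.Agent.NoDivDegrees.AltBound
import Mathlib.Analysis.Fourier.ZMod

/-!
# All forms on the derived quotient are nondegenerate when the second derived subgroup is nontrivial
-/

set_option autoImplicit false
set_option linter.style.haveILetI false
set_option linter.unusedSectionVars false

namespace CfsgLib.NoDivDegrees.LOne

open CfsgLib.Characters CfsgLib.OddOrderChar CfsgLib.CharactersDeep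
open scoped commutatorElement

universe u

variable {G : Type u} [Group G] [Fintype G] {K : Subgroup G} [K.Normal] {R M D : Subgroup G}
  (B : Base K) (F : Frame K R M D)
  (hmin : ∀ W : Subgroup G, W.Normal → W ≤ ⁅K, K⁆ → W ≠ ⊥ → ⁅⁅K, K⁆, ⁅K, K⁆⁆ ≤ W)
  (hcent : ∀ x ∈ ⁅K, K⁆, ∀ u ∈ ⁅⁅K, K⁆, ⁅K, K⁆⁆, x * u = u * x)

theorem coe_mem_iff (N : Subgroup G) (x : N) : (x : G) ∈ ⁅N, N⁆ ↔ x ∈ commutator N := by
  rw [← Subgroup.map_subtype_commutator N]
  exact Subgroup.mem_map_iff_mem N.subtype_injective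

include B F

/-- An operator moving some linear character has no fixed points above the derived subgroup. -/
theorem fpf_mod {b : G} (hb : b ∈ R) (hb0 : b ∈ K0 K) (hb1 : act ⁅K, K⁆ b ≠ 1)
    (hfixU : ∀ u ∈ commutator ↥⁅K, K⁆, MulAut.conjNormal (H := ⁅K, K⁆) b u = u)
    (x : ↥⁅K, K⁆) (hx : x⁻¹ * MulAut.conjNormal (H := ⁅K, K⁆) b x ∈ commutator ↥⁅K, K⁆) :
    x ∈ commutator ↥⁅K, K⁆ := by
  classical
  haveI : Finite (↥⁅K, K⁆ →* ℂˣ) := TwoComponents73.finite_hom
  by_contra hxc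
  obtain ⟨v, -, hv⟩ := TwoComponents73.exists_lin (commutator ↥⁅K, K⁆) le_rfl hxc
  let f : (↥⁅K, K⁆ →* ℂˣ) → (↥⁅K, K⁆ →* ℂˣ) := fun w => act ⁅K, K⁆ b w / w
  have hinj : Function.Injective f := fun w w' hww => by
    by_contra hne
    refine hb1 (act_eq_one B F (K0_le K hb0) (v := w / w')
      (fun h => hne ((div_eq_one (a := w) (b := w')).1 h)) ?_)
    have e : act ⁅K, K⁆ b w / w = act ⁅K, K⁆ b w' / w' := hww
    rw [act_div]
    exact (div_eq_div_iff_div_eq_div (a := act ⁅K, K⁆ b w) (b := w) (c := act ⁅K, K⁆ b w') (d := w')).1 e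
  obtain ⟨w, rfl⟩ := Finite.injective_iff_surjective.1 hinj v
  refine hv ?_
  show act ⁅K, K⁆ b w x / w x = 1
  rw [div_eq_one, act_apply, TwoComponents73.cact_apply]
  set β := MulAut.conjNormal (H := ⁅K, K⁆) b with hβdef
  have hu : β.symm (x⁻¹ * β x) = x⁻¹ * β x := by
    conv_lhs => rw [← hfixU _ hx]
    exact β.symm_apply_apply _
  have hmem : x⁻¹ * β.symm x ∈ commutator ↥⁅K, K⁆ := by
    rw [map_mul, map_inv, β.symm_apply_apply] at hu
    rw [← hu] at hx
    simpa using (commutator _).inv_mem hx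
  have h1 : w (x⁻¹ * β.symm x) = 1 := MonoidHom.mem_ker.1 (Abelianization.commutator_subset_ker w hmem)
  rw [map_mul, map_inv, inv_mul_eq_one] at h1
  refine Eq.trans (congrArg w (Subtype.ext ?_)) h1.symm
  rw [hβdef, MulAut.conjNormal_symm_apply]

include hmin hcent

/-- A nonlinear character of `⁅K, K⁆` is fixed by an operator moving some linear character. -/
theorem exists_b {θ : ↥⁅K, K⁆ → ℂ} [Fintype ↥⁅K, K⁆] (hθ : Cfsg.IsIrrCharacter ↥⁅K, K⁆ θ) (h1 : θ 1 ≠ 1)
    {μ : commutator ↥⁅K, K⁆ →* ℂˣ} (hμ : μ ≠ 1) {e : ℕ} (he : 0 < e)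
    (hθU : ∀ u : commutator ↥⁅K, K⁆, θ u = (e : ℂ) * (μ u : ℂ)) :
    ∃ b ∈ R, b ∈ K0 K ∧ act ⁅K, K⁆ b ≠ 1 ∧ conjBy ⁅K, K⁆ θ b = θ ∧
      ∀ u ∈ commutator ↥⁅K, K⁆, MulAut.conjNormal (H := ⁅K, K⁆) b u = u := by
  classical
  obtain ⟨m₀, hm₀, hm₀0⟩ := exists_M B F
  obtain ⟨x₀, hx₀⟩ : ∃ x : ↥⁅K, K⁆, x ∉ commutator ↥⁅K, K⁆ := by
    by_contra hall
    push Not at hall
    refine h1 (SameDegree.degree_one_of_commutator_le hθ fun c hc => ?_)
    -- the derived subgroup is central, so it is everything and `⁅K, K⁆` is abelian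
    have hab : ∀ x y : ↥⁅K, K⁆, x * y = y * x := fun x y =>
      Subtype.ext (hcent x x.2 y ((coe_mem_iff _ y).2 (hall y)))
    have hc1 : c = 1 := by
      have : commutator ↥⁅K, K⁆ = ⊥ := by
        rw [commutator_def, eq_bot_iff, Subgroup.commutator_le]
        intro x _ y _
        rw [Subgroup.mem_bot, commutatorElement_eq_one_iff_mul_comm]
        exact hab x y
      rwa [this, Subgroup.mem_bot] at hc
    rw [hc1]
  obtain ⟨v₁, -, hv₁⟩ := TwoComponents73.exists_lin (commutator ↥⁅K, K⁆) le_rfl hx₀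
  have hV : ∃ v : ↥⁅K, K⁆ →* ℂˣ, v ≠ 1 := ⟨v₁, fun h => hv₁ (by rw [h]; rfl)⟩
  obtain ⟨a, f, ζ, -, -, -, ha, -⟩ := exists_common B F hV
  set I := DefectOne.inertia ⁅K, K⁆ θ with hI
  have hNI : ⁅K, K⁆ ≤ I := DefectOne.le_inertia _ (isClassFunction_of_isIrr hθ)
  -- some element of `K` in the inertia group moves a linear character
  obtain ⟨b, hbR, hbI, hbK, hb1⟩ : ∃ b ∈ R, b ∈ I ∧ b ∈ K ∧ act ⁅K, K⁆ b ≠ 1 := by
    by_contra hno
    push Not at hno
    obtain ⟨ν, hν, hle⟩ := exists_fix_all B F hV (T := R ⊓ I) inf_le_left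
      (fun t ht htK => hno t ht.1 ht.2 htK)
    have hIle : I ≤ TwoDegrees73.stab ⁅K, K⁆ ν := fun g hg => by
      obtain ⟨c, hc, r, hr, rfl⟩ := F.sup g
      have hrI : r ∈ I := by simpa using I.mul_mem (I.inv_mem (hNI hc)) hg
      exact Subgroup.mul_mem _ ((act_eq_iff _).1 (by rw [act_self _ hc]; rfl)) (hle ⟨hr, hrI⟩)
    obtain ⟨χ, hχ, hne⟩ := CharactersDeep.Clifford.exists_over ⁅K, K⁆ hθ
    obtain ⟨d, hd0, hd⟩ := exists_degree_pos hθ
    obtain ⟨k, hk⟩ := classInner_character_irr (isCharacter_restrict ⁅K, K⁆ (isCharacter_of_isIrr hχ)) hθ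
    have hdeg := clifford_degree ⁅K, K⁆ hχ hθ I (fun g => Iff.rfl) hne
    rw [hk, hd, ← Nat.cast_mul, ← Nat.cast_mul] at hdeg
    obtain ⟨s, hs⟩ := Subgroup.index_dvd_of_le hIle
    rw [ha ν hν] at hs
    have hk0 : k ≠ 0 := fun h => hne (by rw [hk, h, Nat.cast_zero])
    have hmem := DegreeGraph.mem_charDegrees hχ hdeg
    have hda := B.nd.eq_of_dvd (ha ν hν ▸ index_mem B F ν) hmem (ha ν hν ▸ one_lt_index B F hν)
      ⟨k * (s * d), by rw [hs]; ring⟩
    have ha0 : 0 < a := ha ν hν ▸ (Nat.zero_lt_of_lt (one_lt_index B F hν))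
    have h2 : k * (s * d) = 1 := by
      refine Nat.eq_of_mul_eq_mul_left ha0 ?_
      rw [mul_one]
      calc a * (k * (s * d)) = k * (I.index * d) := by rw [hs]; ring
        _ = a := hda.symm
    exact h1 (by rw [hd, Nat.eq_one_of_mul_eq_one_left (Nat.eq_one_of_mul_eq_one_left h2), Nat.cast_one])
  have hbθ : ∀ n : ↥⁅K, K⁆, θ (MulAut.conjNormal (H := ⁅K, K⁆) b n) = θ n := fun n =>
    (congrArg θ (Subtype.ext (MulAut.conjNormal_apply b n))).trans (congrFun hbI n)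
  have hβU : ∀ u ∈ commutator ↥⁅K, K⁆, MulAut.conjNormal (H := ⁅K, K⁆) b u ∈ commutator ↥⁅K, K⁆ :=
    fun u hu => by
      rw [← coe_mem_iff, MulAut.conjNormal_apply]
      exact (inferInstance : (⁅⁅K, K⁆, ⁅K, K⁆⁆).Normal).conj_mem _ ((coe_mem_iff _ u).2 hu) b
  have hbμ : ∀ u : commutator ↥⁅K, K⁆, μ ⟨_, hβU u u.2⟩ = μ u := fun u => Units.ext (by
    have h2 := hbθ u
    rw [hθU u, hθU ⟨_, hβU u u.2⟩] at h2
    exact mul_left_cancel₀ (by exact_mod_cast he.ne') h2)
  have hb0 : b ∈ K0 K := by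
    by_contra hb0
    refine hμ (MonoidHom.ext fun u => ?_)
    obtain ⟨z, hz, hzu⟩ := F.fpf b hbK hb0 (μ.ker.map ((⁅K, K⁆).subtype.comp (commutator ↥⁅K, K⁆).subtype))
      (by rintro _ ⟨z, -, rfl⟩; exact z.1.2)
      (by
        rintro _ ⟨z, hz, rfl⟩
        refine ⟨⟨_, hβU z z.2⟩, ?_, (MulAut.conjNormal_apply b (z : ↥⁅K, K⁆))⟩
        rw [SetLike.mem_coe, MonoidHom.mem_ker, hbμ]
        exact hz)
      u.1 u.1.2
      ⟨u⁻¹ * ⟨_, hβU u u.2⟩, by rw [SetLike.mem_coe, MonoidHom.mem_ker, map_mul, map_inv, hbμ, inv_mul_cancel],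
        by simp⟩
    rw [← show z = u from Subtype.ext (Subtype.ext hzu)]
    exact hz
  refine ⟨b, hbR, hb0, hb1, hbI, ?_⟩
  -- a nontrivial element of the derived subgroup is fixed, so all are
  obtain ⟨u₀, hu₀, hu₀1⟩ : ∃ u₀ : commutator ↥⁅K, K⁆,
      MulAut.conjNormal (H := ⁅K, K⁆) b u₀ = u₀ ∧ u₀ ≠ 1 := by
    by_contra hno
    push Not at hno
    let g : commutator ↥⁅K, K⁆ → commutator ↥⁅K, K⁆ := fun u => u⁻¹ * ⟨_, hβU u u.2⟩
    have hinj : Function.Injective g := fun u u' huu => by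
      have h2 : (u : ↥⁅K, K⁆)⁻¹ * MulAut.conjNormal b (u : ↥⁅K, K⁆) =
          (u' : ↥⁅K, K⁆)⁻¹ * MulAut.conjNormal b (u' : ↥⁅K, K⁆) := congrArg Subtype.val huu
      have h3 : MulAut.conjNormal b ((u' * u⁻¹ : commutator ↥⁅K, K⁆) : ↥⁅K, K⁆) =
          ((u' * u⁻¹ : commutator ↥⁅K, K⁆) : ↥⁅K, K⁆) := by
        simp only [Subgroup.coe_mul, Subgroup.coe_inv, map_mul, map_inv]
        calc MulAut.conjNormal b (u' : ↥⁅K, K⁆) * (MulAut.conjNormal b (u : ↥⁅K, K⁆))⁻¹
            = (u' : ↥⁅K, K⁆) * ((u' : ↥⁅K, K⁆)⁻¹ * MulAut.conjNormal b (u' : ↥⁅K, K⁆)) *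
                ((u : ↥⁅K, K⁆)⁻¹ * MulAut.conjNormal b (u : ↥⁅K, K⁆))⁻¹ * (u : ↥⁅K, K⁆)⁻¹ := by group
          _ = (u' : ↥⁅K, K⁆) * (u : ↥⁅K, K⁆)⁻¹ := by rw [h2]; group
      exact (mul_inv_eq_one.1 (hno _ h3)).symm
    refine hμ (MonoidHom.ext fun u => ?_)
    obtain ⟨w, rfl⟩ := Finite.injective_iff_surjective.1 hinj u
    show μ (w⁻¹ * ⟨_, hβU w w.2⟩) = 1
    rw [map_mul, map_inv, hbμ, inv_mul_cancel]
  let W : Subgroup G :=
    { carrier := {w | w ∈ ⁅⁅K, K⁆, ⁅K, K⁆⁆ ∧ b * w = w * b}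
      one_mem' := ⟨one_mem _, by rw [mul_one, one_mul]⟩
      mul_mem' := fun {p q} hp hq => ⟨Subgroup.mul_mem _ hp.1 hq.1,
        (show Commute b (p * q) from Commute.mul_right hp.2 hq.2)⟩
      inv_mem' := fun {p} hp => ⟨Subgroup.inv_mem _ hp.1, (show Commute b p⁻¹ from Commute.inv_right hp.2)⟩ }
  have hW : W.Normal := ⟨fun w hw g => ⟨(inferInstance : (⁅⁅K, K⁆, ⁅K, K⁆⁆).Normal).conj_mem w hw.1 g, by
    obtain ⟨c, hc, r, hr, rfl⟩ := F.sup g
    have hrw : r * w * r⁻¹ ∈ ⁅⁅K, K⁆, ⁅K, K⁆⁆ :=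
      (inferInstance : (⁅⁅K, K⁆, ⁅K, K⁆⁆).Normal).conj_mem w hw.1 r
    have e : c * r * w * (c * r)⁻¹ = r * w * r⁻¹ := by
      calc c * r * w * (c * r)⁻¹ = c * (r * w * r⁻¹) * c⁻¹ := by group
        _ = r * w * r⁻¹ := by rw [hcent c hc _ hrw, mul_inv_cancel_right]
    rw [e]
    have hrb : Commute b r := (F.central b hbR hb0 r hr).symm
    exact (hrb.mul_right (show Commute b w from hw.2)).mul_right hrb.inv_right⟩⟩
  have hle := hmin W hW (fun w hw => Subgroup.commutator_le_self _ hw.1) (fun h => hu₀1 (by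
    have hmem : ((u₀ : ↥⁅K, K⁆) : G) ∈ W := ⟨(coe_mem_iff _ _).2 u₀.2, by
      have h2 := congrArg Subtype.val hu₀
      rw [MulAut.conjNormal_apply, mul_inv_eq_iff_eq_mul] at h2
      exact h2⟩
    rw [h, Subgroup.mem_bot] at hmem
    exact Subtype.ext (Subtype.ext hmem)))
  intro u hu
  refine Subtype.ext ?_
  rw [MulAut.conjNormal_apply, (hle ((coe_mem_iff _ u).2 hu)).2, mul_inv_cancel_right]

/-- Every nontrivial linear character of the second derived subgroup gives a nondegenerate form. -/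
theorem rad_le (hc : ∀ x : ↥⁅K, K⁆, ∀ u ∈ commutator ↥⁅K, K⁆, x * u = u * x)
    {μ : commutator ↥⁅K, K⁆ →* ℂˣ} (hμ : μ ≠ 1) : rad hc μ ≤ commutator ↥⁅K, K⁆ := by
  classical
  haveI := Fintype.ofFinite ↥⁅K, K⁆
  haveI := rad_normal hc μ
  haveI := Fintype.ofFinite (rad hc μ)
  refine rad_le_of_unique hc μ ?_
  -- to each extension an operator fixing it
  have key : ∀ ν : rad hc μ →* ℂˣ, (∀ u : commutator ↥⁅K, K⁆, ν ⟨u, commutator_le_rad hc μ u.2⟩ = μ u) →
      ∃ b ∈ R, b ∈ K0 K ∧ act ⁅K, K⁆ b ≠ 1 ∧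
        ∃ hβ : ∀ u ∈ commutator ↥⁅K, K⁆, MulAut.conjNormal (H := ⁅K, K⁆) b u = u,
          ∀ x : rad hc μ, ν ⟨_, map_mem_rad hc _ hβ x.2⟩ = ν x := by
    intro ν hν
    obtain ⟨θ, hθ, hne⟩ := CharactersDeep.Clifford.exists_over (rad hc μ) (isIrr_linChar ν)
    obtain ⟨e, he, hres, -⟩ := CharactersDeep.Clifford.restrict_eq_smul (rad hc μ) hθ (isIrr_linChar ν)
      (fun g => funext fun x => congrArg Units.val (by
        have e1 : (⟨g * x * g⁻¹, (rad_normal hc μ).conj_mem x x.2 g⟩ : rad hc μ) =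
            ⟨(pr g x : ↥⁅K, K⁆), commutator_le_rad hc μ (pr g x).2⟩ * x :=
          Subtype.ext (by simp [pr, commutatorElement_def])
        show ν ⟨g * x * g⁻¹, (rad_normal hc μ).conj_mem x x.2 g⟩ = ν x
        rw [e1, map_mul, hν, pr_swap, map_inv, x.2 g, inv_one, one_mul])) hne
    have hval : ∀ x : rad hc μ, θ x = (e : ℂ) * (ν x : ℂ) := fun x => by
      simpa using congrFun hres x
    have hθU : ∀ u : commutator ↥⁅K, K⁆, θ u = (e : ℂ) * (μ u : ℂ) := fun u => by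
      rw [← hν u]; exact hval ⟨u, commutator_le_rad hc μ u.2⟩
    have h1 : θ 1 ≠ 1 := fun h1 => hμ (MonoidHom.ext fun u => Units.ext (by
      have h2 := SameDegree.linear_commutator hθ h1 u.2
      have h3 : θ 1 = (e : ℂ) := by
        have h4 := hθU 1
        rw [map_one, Units.val_one, mul_one] at h4
        exact h4
      rw [hθU, h3] at h2
      rw [MonoidHom.one_apply, Units.val_one]
      exact mul_left_cancel₀ (show (e : ℂ) ≠ 0 by exact_mod_cast he.ne') (h2.trans (mul_one _).symm)))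
    obtain ⟨b, hb, hb0, hb1, hbθ, hβ⟩ := exists_b B F hmin hcent hθ h1 hμ he hθU
    refine ⟨b, hb, hb0, hb1, hβ, fun x => Units.ext ?_⟩
    have h2 := congrFun hbθ x
    rw [hval] at h2
    rw [show conjBy ⁅K, K⁆ θ b x = θ (MulAut.conjNormal (H := ⁅K, K⁆) b (x : ↥⁅K, K⁆)) from
      congrArg θ (Subtype.ext (MulAut.conjNormal_apply b (x : ↥⁅K, K⁆)).symm),
      hval ⟨_, map_mem_rad hc _ hβ x.2⟩] at h2
    exact mul_left_cancel₀ (show (e : ℂ) ≠ 0 by exact_mod_cast he.ne') h2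
  intro ν ν' hν hν'
  obtain ⟨b, hb, hb0, hb1, hβ, hfix⟩ := key ν hν
  obtain ⟨b', hb', hb'0, hb'1, hβ', hfix'⟩ := key ν' hν'
  -- `ν` composed with `b'` is again an extension fixed by `b`
  let ν₁ : rad hc μ →* ℂˣ := MonoidHom.mk' (fun x => ν ⟨_, map_mem_rad hc _ hβ' x.2⟩) fun x y => by
    rw [← map_mul]
    exact congrArg ν (Subtype.ext (map_mul (MulAut.conjNormal (H := ⁅K, K⁆) b') (x : ↥⁅K, K⁆) y))
  have hν₁ : ∀ u : commutator ↥⁅K, K⁆, ν₁ ⟨u, commutator_le_rad hc μ u.2⟩ = μ u := fun u =>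
    (congrArg ν (Subtype.ext (hβ' _ u.2))).trans (hν u)
  have hν₁b : ∀ x : rad hc μ, ν₁ ⟨_, map_mem_rad hc _ hβ x.2⟩ = ν₁ x := fun x => by
    refine Eq.trans ?_ (hfix ⟨_, map_mem_rad hc _ hβ' x.2⟩)
    refine congrArg ν (Subtype.ext ?_)
    show MulAut.conjNormal b' (MulAut.conjNormal b (x : ↥⁅K, K⁆)) =
      MulAut.conjNormal b (MulAut.conjNormal b' (x : ↥⁅K, K⁆))
    rw [← MulAut.mul_apply, ← MulAut.mul_apply, ← map_mul, ← map_mul, F.central b hb hb0 b' hb']
  have e1 := ext_eq hc _ hβ (fpf_mod B F hb hb0 hb1 hβ) hν₁ hν hν₁b hfix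
  exact ext_eq hc _ hβ' (fpf_mod B F hb' hb'0 hb'1 hβ') hν hν' (fun x => DFunLike.congr_fun e1 x) hfix'

/-- The order bound `([K : K0] + 1) ^ 2 ≤ |K' : K''|`. -/
theorem sq_le_card (hU : ⁅⁅K, K⁆, ⁅K, K⁆⁆ ≠ (⊥ : Subgroup G)) {q : ℕ} (hq : q.Prime)
    (hexp : ∀ u ∈ ⁅⁅K, K⁆, ⁅K, K⁆⁆, u ^ q = 1) (hne : ⁅⁅K, K⁆, ⁅K, K⁆⁆ ≠ ⁅K, K⁆) :
    ((K0 K).relIndex K + 1) ^ 2 ≤ Nat.card (↥⁅K, K⁆ →* ℂˣ) := by
  classical
  haveI := Fact.mk hq
  haveI := Fintype.ofFinite ↥⁅K, K⁆
  set N := ⁅K, K⁆ with hN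
  have hc : ∀ x : N, ∀ u ∈ commutator N, x * u = u * x := fun x u hu =>
    Subtype.ext (hcent x x.2 u ((coe_mem_iff _ u).2 hu))
  have hcardU : Nat.card (commutator N) = Nat.card (⁅N, N⁆ : Subgroup G) := by
    rw [← Subgroup.map_subtype_commutator N, Subgroup.card_map_of_injective N.subtype_injective]
  -- `M` moves every nontrivial element of the second derived subgroup
  have hn : (K0 K).relIndex K + 1 ≤ Nat.card (⁅N, N⁆ : Subgroup G) := by
    obtain ⟨u₀, hu₀, hu₀1⟩ : ∃ u ∈ (⁅N, N⁆ : Subgroup G), u ≠ 1 := by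
      by_contra hall
      push Not at hall
      exact hU ((Subgroup.eq_bot_iff_forall _).2 hall)
    let g : Option M → (⁅N, N⁆ : Subgroup G) := fun o => o.elim 1 fun m =>
      ⟨(m : G) * u₀ * (m : G)⁻¹, (inferInstance : (⁅N, N⁆).Normal).conj_mem u₀ hu₀ m⟩
    have hg : Function.Injective g := by
      rintro (_ | m) (_ | m') h
      · rfl
      · have h2 : (1 : G) = (m' : G) * u₀ * (m' : G)⁻¹ := congrArg Subtype.val h
        exact absurd (conj_eq_one_iff.1 h2.symm) hu₀1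
      · have h2 : (m : G) * u₀ * (m : G)⁻¹ = 1 := congrArg Subtype.val h
        exact absurd (conj_eq_one_iff.1 h2) hu₀1
      · congr 1
        by_contra hmm
        have h2 : (m : G) * u₀ * (m : G)⁻¹ = (m' : G) * u₀ * (m' : G)⁻¹ := congrArg Subtype.val h
        have hM : (m : G)⁻¹ * m' ∈ M := M.mul_mem (M.inv_mem m.2) m'.2
        have h3 : (m : G)⁻¹ * m' * u₀ * ((m : G)⁻¹ * m')⁻¹ = u₀ := by
          calc (m : G)⁻¹ * m' * u₀ * ((m : G)⁻¹ * m')⁻¹
              = (m : G)⁻¹ * ((m' : G) * u₀ * (m' : G)⁻¹) * m := by group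
            _ = u₀ := by rw [← h2]; group
        refine hu₀1 (Subgroup.mem_bot.1 (F.fpf _ (F.M_le hM).2
          (fun h0 => hmm (Subtype.ext (inv_mul_eq_one.1 (F.M_K0 _ hM h0)))) ⊥ bot_le
          (fun w hw => ?_) u₀ (Subgroup.commutator_le_self _ hu₀) ?_))
        · rw [Subgroup.mem_bot.1 hw, mul_one, mul_inv_cancel]; exact one_mem _
        · rw [h3, inv_mul_cancel]; exact one_mem _
    have h := Nat.card_le_card_of_injective g hg
    rwa [Finite.card_option, F.M_card] at h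
  refine le_trans (Nat.pow_le_pow_left hn 2) ?_
  rw [← hcardU, Nat.card_congr (linearCharEquiv (G := N)), card_linear_char, Subgroup.index_eq_card]
  letI : CommGroup (commutator N) := { (inferInstance : Group (commutator N)) with
    mul_comm := fun a b => Subtype.ext (hc a b b.2) }
  let c₁ : N →* (Abelianization N →* commutator N) := MonoidHom.mk'
    (fun x => Abelianization.lift (MonoidHom.mk' (pr x) fun w z => pr_mul_right hc x w z)) fun x y => by
      refine Abelianization.hom_ext _ _ (MonoidHom.ext fun w => ?_)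
      simp only [MonoidHom.comp_apply, MonoidHom.mul_apply, Abelianization.lift_apply_of, MonoidHom.mk'_apply]
      exact pr_mul_left hc x y w
  let c₂ : Abelianization N →* (Abelianization N →* commutator N) := Abelianization.lift c₁
  let c : Additive (Abelianization N) →+ Additive (Abelianization N) →+ Additive (commutator N) :=
    AddMonoidHom.mk' (fun a => (c₂ a.toMul).toAdditive) fun a b => by
      refine AddMonoidHom.ext fun z => ?_
      exact congrArg Additive.ofMul (DFunLike.congr_fun (map_mul c₂ a.toMul b.toMul) z.toMul)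
  have hc_of : ∀ x w : N,
      c (Additive.ofMul (Abelianization.of x)) (Additive.ofMul (Abelianization.of w)) =
        Additive.ofMul (pr x w) := fun x w => rfl
  haveI : Finite (Abelianization N) := Quotient.finite _
  haveI : Nontrivial (Additive (Abelianization N)) := by
    by_contra hno
    rw [not_nontrivial_iff_subsingleton] at hno
    refine hne (le_antisymm (Subgroup.commutator_le_self _) fun x hx => ?_)
    rw [show x = ((⟨x, hx⟩ : N) : G) from rfl, coe_mem_iff, ← Abelianization.ker_of, MonoidHom.mem_ker]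
    exact congrArg Additive.toMul
      (hno.elim (Additive.ofMul (Abelianization.of (⟨x, hx⟩ : N))) (Additive.ofMul 1))
  have hUq : ∀ u : commutator N, u ^ q = 1 := fun u =>
    Subtype.ext (Subtype.ext (by simpa using hexp _ ((coe_mem_iff _ _).2 u.2)))
  -- a nontrivial character of the second derived subgroup
  obtain ⟨μ₀, hμ₀⟩ : ∃ μ : commutator N →* ℂˣ, μ ≠ 1 := by
    obtain ⟨u₀, hu₀⟩ : ∃ u : commutator N, u ≠ 1 := by
      by_contra hall
      push Not at hall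
      refine hU ((Subgroup.eq_bot_iff_forall _).2 fun u hu => ?_)
      have h1 := hall ⟨⟨u, Subgroup.commutator_le_self _ hu⟩, (coe_mem_iff _ _).1 hu⟩
      exact congrArg (fun z : commutator N => ((z : N) : G)) h1
    by_contra hall
    push Not at hall
    exact hu₀ (TwoComponents73.eq_of_forall_lin fun l => by rw [hall l]; simp)
  refine le_of_eq_of_le ?_ (le_of_le_of_eq
    (card_sq_le_of_forall_nondegenerate (p := q) (V := Additive (Abelianization N))
      (W := Additive (commutator N)) ?_ ?_ c ?_ ?_) ?_)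
  · rw [Nat.card_congr Additive.toMul]
  · intro v
    obtain ⟨v, rfl⟩ := Additive.ofMul.surjective v
    induction v using QuotientGroup.induction_on with
    | _ x =>
      show q • Additive.ofMul (Abelianization.of x) = 0
      rw [← ofMul_pow]
      show Additive.ofMul ((Abelianization.of x) ^ q) = Additive.ofMul 1
      rw [← map_pow, ← MonoidHom.mem_ker.1 (show x ^ q ∈ Abelianization.of.ker from ?_)]
      rw [Abelianization.ker_of]
      refine rad_le B F hmin hcent hc hμ₀ fun w => ?_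
      have h1 : pr (x ^ q) w = pr x w ^ q :=
        map_pow (MonoidHom.mk' (fun z => pr z w) fun a b => pr_mul_left hc a b w) x q
      rw [h1, hUq, map_one]
  · intro w
    obtain ⟨w, rfl⟩ := Additive.ofMul.surjective w
    rw [← ofMul_pow, hUq]
    rfl
  · intro v
    obtain ⟨v, rfl⟩ := Additive.ofMul.surjective v
    induction v using QuotientGroup.induction_on with
    | _ x =>
      show c (Additive.ofMul (Abelianization.of x)) (Additive.ofMul (Abelianization.of x)) = 0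
      rw [hc_of, show pr x x = 1 from Subtype.ext (commutatorElement_self x)]
      rfl
  · intro φ hφ v hv
    obtain ⟨v, rfl⟩ := Additive.ofMul.surjective v
    induction v using QuotientGroup.induction_on with
    | _ x =>
      let χ : commutator N →* Multiplicative (ZMod q) :=
        MonoidHom.mk' (fun u => Multiplicative.ofAdd (φ (Additive.ofMul u))) fun a b => by
          rw [ofMul_mul, map_add, ofAdd_add]
      let μ : commutator N →* ℂˣ := ((ZMod.stdAddChar (N := q)).toMonoidHom.toHomUnits).comp χ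
      have hμ : μ ≠ 1 := fun h1 => hφ (AddMonoidHom.ext fun u => ZMod.injective_stdAddChar (by
        rw [AddMonoidHom.zero_apply, AddChar.map_zero_eq_one]
        exact congrArg Units.val (DFunLike.congr_fun h1 u.toMul)))
      have hx : x ∈ commutator N := rad_le B F hmin hcent hc hμ fun w => Units.ext (by
        show ZMod.stdAddChar (φ (Additive.ofMul (pr x w))) = 1
        rw [← hc_of]
        exact (congrArg _ (hv (Additive.ofMul (Abelianization.of w)))).trans (AddChar.map_zero_eq_one _))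
      show Additive.ofMul (Abelianization.of x) = Additive.ofMul 1
      rw [MonoidHom.mem_ker.1 (show x ∈ Abelianization.of.ker by rwa [Abelianization.ker_of])]
  · exact Nat.card_congr Additive.toMul

end CfsgLib.NoDivDegrees.LOne
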