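import Cfsg.Agent.NoDivDegrees.LOne.Orbits

/-!
# Covering the linear characters by fixed spaces
-/

set_option autoImplicit false
set_option linter.style.haveILetI false
set_option linter.unusedSectionVars false

namespace CfsgLib.NoDivDegrees.LOne

open CfsgLib.Characters CfsgLib.OddOrderChar CfsgLib.CharactersDeep
open scoped commutatorElement

universe u

variable {G : Type u} [Group G] [Fintype G] {K : Subgroup G} [K.Normal] {R M D : Subgroup G}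
  (B : Base K) (F : Frame K R M D)

include B F

theorem card_fix_pow_le {f : ℕ} {d : G} (hd : d ∈ D) (hord : orderOf (d : G ⧸ K) = f)
    [Fintype (↥⁅K, K⁆ →* ℂˣ)] [DecidableEq (↥⁅K, K⁆ →* ℂˣ)] :
    (Finset.univ.filter fun v => act ⁅K, K⁆ d v = v).card ^ f ≤ Nat.card (↥⁅K, K⁆ →* ℂˣ) := by
  classical
  set S := Finset.univ.filter fun v => act ⁅K, K⁆ d v = v with hS
  obtain ⟨m, hm, hm0⟩ := exists_M B F
  have hm1 : m ≠ 1 := fun h => hm0 (h ▸ one_mem _)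
  let e : ℕ → (↥⁅K, K⁆ →* ℂˣ) →* (↥⁅K, K⁆ →* ℂˣ) := fun i =>
    (act ⁅K, K⁆ (d ^ i * m * (d ^ i)⁻¹)).toMonoidHom
  have he : ∀ i v, e i v = act ⁅K, K⁆ (d ^ i * m * (d ^ i)⁻¹) v := fun _ _ => rfl
  have heM : ∀ i, d ^ i * m * (d ^ i)⁻¹ ∈ M := fun i => F.M_conj _ (R.pow_mem (F.D_le hd) i) m hm
  have hcomm : ∀ i j v, e i (e j v) = e j (e i v) := fun i j v => by
    rw [he, he, he, he, ← MulAut.mul_apply, ← MulAut.mul_apply, ← map_mul, ← map_mul,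
      F.comm _ (F.M_le (heM i)).1 (F.M_le (heM i)).2 _ (F.M_le (heM j)).1 (F.M_le (heM j)).2]
  have hdiff : ∀ i < f, ∀ j < f, i ≠ j → ∀ v, e i v = e j v → v = 1 := by
    intro i hi j hj hij v hv
    rw [he, he] at hv
    set mi := d ^ i * m * (d ^ i)⁻¹ with hmi
    set mj := d ^ j * m * (d ^ j)⁻¹ with hmj
    have hK : mj⁻¹ * mi ∈ M := M.mul_mem (M.inv_mem (heM j)) (heM i)
    refine eq_one_of_fix B F (F.M_le hK).2 (fun h0 => hij ?_) (v := v) (by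
      rw [map_mul, MulAut.mul_apply, hv, ← MulAut.mul_apply, ← map_mul, inv_mul_cancel, map_one,
        MulAut.one_apply])
    have hmm : mj = mi := inv_mul_eq_one.1 (F.M_K0 _ hK h0)
    -- the conjugates are distinct
    set t := (d ^ j)⁻¹ * d ^ i with ht
    have htm : t * m = m * t := by
      calc t * m = (d ^ j)⁻¹ * mi * d ^ i := by rw [ht, hmi]; group
        _ = (d ^ j)⁻¹ * mj * d ^ i := by rw [hmm]
        _ = m * t := by rw [ht, hmj]; group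
    have htK : t ∈ K := by_contra fun h => hm1
      (F.M_fpf t (R.mul_mem (R.inv_mem (R.pow_mem (F.D_le hd) j)) (R.pow_mem (F.D_le hd) i)) h m hm htm)
    rw [← QuotientGroup.eq_one_iff, ht, QuotientGroup.mk_mul, QuotientGroup.mk_inv, QuotientGroup.mk_pow,
      QuotientGroup.mk_pow, inv_mul_eq_one, pow_inj_mod, hord, Nat.mod_eq_of_lt hi, Nat.mod_eq_of_lt hj]
      at htK
    exact htK.symm
  let ext' : (Fin f → S) → ℕ → (↥⁅K, K⁆ →* ℂˣ) := fun c l =>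
    if hl : l < f then (c ⟨l, hl⟩).1 else 1
  let Ψ : (Fin f → S) → (↥⁅K, K⁆ →* ℂˣ) := fun c => horner (e 0) f (ext' c)
  have hfix : ∀ c l, act ⁅K, K⁆ d (ext' c l) = ext' c l := fun c l => by
    simp only [ext']
    split_ifs with hl
    · exact (Finset.mem_filter.1 (c ⟨l, hl⟩).2).2
    · exact map_one _
  have hinj : Function.Injective Ψ := by
    intro c c' hcc
    let c'' : ℕ → (↥⁅K, K⁆ →* ℂˣ) := fun l => ext' c l / ext' c' l
    have h0 : horner (e 0) f c'' = 1 := by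
      have h1 := horner_mul (e 0) f c'' (ext' c')
      rw [show (fun l => c'' l * ext' c' l) = ext' c from funext fun l => div_mul_cancel (ext' c l) (ext' c' l)] at h1
      exact mul_eq_right.1 (h1.symm.trans hcc)
    have hfix'' : ∀ i l, (act ⁅K, K⁆ (d ^ i)) (c'' l) = c'' l := fun i l => by
      induction i with
      | zero => simp
      | succ i ih =>
        rw [pow_succ, map_mul, MulAut.mul_apply,
          show act ⁅K, K⁆ d (c'' l) = c'' l by simp only [c'']; rw [act_div, hfix, hfix], ih]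
    let σ : ℕ → (↥⁅K, K⁆ →* ℂˣ) →* (↥⁅K, K⁆ →* ℂˣ) := fun i => (act ⁅K, K⁆ (d ^ i)).toMonoidHom
    have hroots : ∀ i < f, horner (e i) f c'' = 1 := fun i _ => by
      rw [← map_horner (σ i) (e 0) (e i) (fun v => ?_) f c'' (fun l => hfix'' i l), h0,
        map_one]
      show act ⁅K, K⁆ (d ^ i) (e 0 v) = e i (act ⁅K, K⁆ (d ^ i) v)
      rw [he, he, ← MulAut.mul_apply, ← MulAut.mul_apply, ← map_mul, ← map_mul, pow_zero,
        inv_mul_cancel_right, one_mul, inv_one, mul_one]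
    funext l
    have hl := horner_eq_one f e hcomm hdiff c'' hroots l l.2
    simp only [c'', ext', dif_pos l.2] at hl
    exact Subtype.ext ((div_eq_one (a := (c l).1) (b := (c' l).1)).1 hl)
  have h := Nat.card_le_card_of_injective Ψ hinj
  rwa [Nat.card_fun, Nat.card_fin, Nat.card_eq_fintype_card (α := S), Fintype.card_coe] at h

/-- The fixed spaces of few elements cover the linear characters up to translation by `M`. -/
theorem count_bound (hV : ∃ v : ↥⁅K, K⁆ →* ℂˣ, v ≠ 1) :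
    ∃ f x : ℕ, 2 ≤ f ∧ 1 ≤ x ∧ x ^ f ≤ Nat.card (↥⁅K, K⁆ →* ℂˣ) ∧
      2 * (Nat.card (↥⁅K, K⁆ →* ℂˣ) - 1) ≤ (K0 K).relIndex K * (f * (x - 1)) := by
  classical
  haveI := Fintype.ofFinite (↥⁅K, K⁆ →* ℂˣ)
  haveI : Finite (MulAut (↥⁅K, K⁆ →* ℂˣ)) := Finite.of_injective
    (fun e => (e : (↥⁅K, K⁆ →* ℂˣ) → (↥⁅K, K⁆ →* ℂˣ))) DFunLike.coe_injective
  obtain ⟨a, f, ζ, hf2, hζ, hnd, -, hcov⟩ := exists_common B F hV
  obtain ⟨v₀, hv₀⟩ := hV
  obtain ⟨-, -, d₁, hd₁, hd₁z, -, hd₁f⟩ := hcov v₀ hv₀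
  set S : Finset (MulAut (↥⁅K, K⁆ →* ℂˣ)) :=
    (Finset.univ.filter fun d : G => d ∈ D ∧ (d : G ⧸ K) = ζ ∧ act ⁅K, K⁆ (d ^ f) = 1).image (act ⁅K, K⁆)
    with hS
  have hmemS : ∀ ψ, ψ ∈ S ↔ ∃ d, (d ∈ D ∧ (d : G ⧸ K) = ζ ∧ act ⁅K, K⁆ (d ^ f) = 1) ∧
      act ⁅K, K⁆ d = ψ := fun ψ => by simp [hS]
  -- few elements
  have hScard : 2 * S.card ≤ f := by
    set Kb := (R ⊓ K0 K).map (act ⁅K, K⁆) with hKb
    have hcomm : ∀ a b : Kb, a * b = b * a := by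
      rintro ⟨_, a, ha, rfl⟩ ⟨_, b, hb, rfl⟩
      exact Subtype.ext (by
        show act ⁅K, K⁆ a * act ⁅K, K⁆ b = act ⁅K, K⁆ b * act ⁅K, K⁆ a
        rw [← map_mul, ← map_mul, F.central b hb.1 hb.2 a ha.1])
    haveI : IsCyclic Kb := isCyclic_of_fpf Kb.subtype hcomm (by
      rintro ⟨_, b, hb, rfl⟩ hb1 v hv
      by_contra hv1
      exact hb1 (Subtype.ext (act_eq_one B F (K0_le K hb.2) hv1 hv))) ⟨v₀, hv₀⟩
    letI : CommGroup Kb := { (inferInstance : Group Kb) with mul_comm := hcomm }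
    have hcard : S.card ≤ (Nat.card Kb).gcd f := by
      rw [← IsCyclic.card_powMonoidHom_ker (G := Kb) f, ← Fintype.card_coe, ← Nat.card_eq_fintype_card]
      have hmem : ∀ ψ : S, ((act ⁅K, K⁆ d₁)⁻¹ * ψ.1 : MulAut (↥⁅K, K⁆ →* ℂˣ)) ∈ Kb ∧
          ((act ⁅K, K⁆ d₁)⁻¹ * ψ.1) ^ f = 1 := by
        rintro ⟨ψ, hψ⟩
        obtain ⟨d, ⟨hd, hdz, hdf⟩, rfl⟩ := (hmemS ψ).1 hψ
        have hdd : d₁⁻¹ * d ∈ D := D.mul_mem (D.inv_mem hd₁) hd
        have hK : d₁⁻¹ * d ∈ K := by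
          rw [← QuotientGroup.eq_one_iff, QuotientGroup.mk_mul, QuotientGroup.mk_inv, hd₁z, hdz,
            inv_mul_cancel]
        refine ⟨⟨_, ⟨F.D_le hdd, F.D_K _ hdd hK⟩, by rw [map_mul, map_inv]⟩, ?_⟩
        rw [← map_inv, ← map_mul, ← map_pow,
          (Commute.inv_left (F.D_comm d₁ hd₁ d hd : Commute d₁ d)).mul_pow, map_mul, inv_pow, map_inv,
          hd₁f, hdf, inv_one, one_mul]
      refine Nat.card_le_card_of_injective
        (fun ψ : S => (⟨⟨_, (hmem ψ).1⟩, Subtype.ext (hmem ψ).2⟩ : (powMonoidHom f : Kb →* Kb).ker)) ?_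
      intro ψ ψ' h
      exact Subtype.ext (mul_left_cancel (congrArg (fun z : (powMonoidHom f : Kb →* Kb).ker =>
        ((z : Kb) : MulAut (↥⁅K, K⁆ →* ℂˣ))) h))
    obtain ⟨k, hk⟩ := Nat.gcd_dvd_right (Nat.card Kb) f
    have hk2 : 2 ≤ k := by
      rcases k with _ | _ | k
      · omega
      · rw [zero_add, mul_one] at hk; exact absurd (hk ▸ Nat.gcd_dvd_left (Nat.card Kb) f) hnd
      · omega
    calc 2 * S.card ≤ k * (Nat.card Kb).gcd f := Nat.mul_le_mul hk2 hcard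
      _ = f := by rw [mul_comm, ← hk]
  have hd₁S : act ⁅K, K⁆ d₁ ∈ S := (hmemS _).2 ⟨d₁, ⟨hd₁, hd₁z, hd₁f⟩, rfl⟩
  let Fx : MulAut (↥⁅K, K⁆ →* ℂˣ) → Finset (↥⁅K, K⁆ →* ℂˣ) := fun ψ => Finset.univ.filter fun v => ψ v = v
  obtain ⟨ψm, hψm, hmax⟩ := S.exists_max_image (fun ψ => (Fx ψ).card) ⟨_, hd₁S⟩
  have hone : ∀ ψ, (1 : ↥⁅K, K⁆ →* ℂˣ) ∈ Fx ψ := fun ψ =>
    Finset.mem_filter.2 ⟨Finset.mem_univ _, map_one ψ⟩
  refine ⟨f, (Fx ψm).card, hf2, Finset.card_pos.2 ⟨1, hone _⟩, ?_, ?_⟩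
  · obtain ⟨d, ⟨hd, hdz, -⟩, rfl⟩ := (hmemS _).1 hψm
    exact card_fix_pow_le B F hd (hdz ▸ hζ)
  have hsub : (Finset.univ.erase (1 : ↥⁅K, K⁆ →* ℂˣ)) ⊆
      ((Finset.univ : Finset M) ×ˢ S).biUnion fun p =>
        ((Fx p.2).erase 1).image fun v => (act ⁅K, K⁆ (p.1 : G))⁻¹ v := by
    intro v hv
    have hv1 := (Finset.mem_erase.1 hv).1
    obtain ⟨m, hm, d, hd, hdz, hfix, hdf⟩ := hcov v hv1
    refine Finset.mem_biUnion.2 ⟨(⟨m, hm⟩, act ⁅K, K⁆ d),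
      Finset.mem_product.2 ⟨Finset.mem_univ _, (hmemS _).2 ⟨d, ⟨hd, hdz, hdf⟩, rfl⟩⟩,
      Finset.mem_image.2 ⟨act ⁅K, K⁆ m v, Finset.mem_erase.2
        ⟨fun h => hv1 ((map_eq_one_iff _ (MulEquiv.injective _)).1 h),
          Finset.mem_filter.2 ⟨Finset.mem_univ _, hfix⟩⟩, ?_⟩⟩
    rw [← MulAut.mul_apply, inv_mul_cancel, MulAut.one_apply]
  have h1 := (Finset.card_le_card hsub).trans (Finset.card_biUnion_le_card_mul _ _ ((Fx ψm).card - 1)
    fun p hp => Finset.card_image_le.trans (by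
      rw [Finset.card_erase_of_mem (hone _)]
      exact Nat.sub_le_sub_right (hmax _ (Finset.mem_product.1 hp).2) 1))
  rw [Finset.card_erase_of_mem (Finset.mem_univ _), Finset.card_univ, Finset.card_product, Finset.card_univ,
    ← Nat.card_eq_fintype_card, ← Nat.card_eq_fintype_card, F.M_card] at h1
  calc 2 * (Nat.card (↥⁅K, K⁆ →* ℂˣ) - 1)
      ≤ 2 * ((K0 K).relIndex K * S.card * ((Fx ψm).card - 1)) := Nat.mul_le_mul_left _ h1
    _ = (K0 K).relIndex K * (2 * S.card * ((Fx ψm).card - 1)) := by ring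
    _ ≤ _ := Nat.mul_le_mul_left _ (Nat.mul_le_mul_right _ hScard)

end CfsgLib.NoDivDegrees.LOne
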