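import Cfsg.Agent.Solvable.FixedPointFree
import Mathlib.GroupTheory.SemidirectProduct
import Mathlib.GroupTheory.SpecificGroups.Cyclic

/-!
# Fixed vectors of complements, and translates of a fixed space

* `exists_fixed`: a group acting without fixed points on an abelian group of coprime order, as a Frobenius
  kernel, forces a fixed vector for each complement.
* `isCyclic_of_fpf`: an abelian group acting without fixed points is cyclic.
* `horner_eq_one`: the translates of a fixed space by distinct commuting operators are independent.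
-/

set_option autoImplicit false

namespace CfsgLib.NoDivDegrees.LOne

variable {H : Type*} [Group H] {V : Type*} [CommGroup V]

/-- A Frobenius complement fixes a vector when the kernel fixes none. -/
theorem exists_fixed [Finite H] (φ : H →* MulAut V) (M T : Subgroup H)
    (hTM : ∀ t ∈ T, ∀ m ∈ M, t * m * t⁻¹ ∈ M)
    (hfpf : ∀ t ∈ T, t ≠ 1 → ∀ m ∈ M, t * m = m * t → m = 1)
    (hM : ∀ v, (∀ m ∈ M, φ m v = v) → v = 1)
    (hcop : ∀ v : V, v ^ Nat.card M = 1 → v = 1) (hV : ∃ v : V, v ≠ 1) :
    ∃ v : V, v ≠ 1 ∧ ∀ t ∈ T, φ t v = v := by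
  classical
  haveI := Fintype.ofFinite M
  haveI := Fintype.ofFinite T
  have happ : ∀ (a b : H) (v : V), φ (a * b) v = φ a (φ b v) := fun a b v => by rw [map_mul]; rfl
  by_contra hno
  push Not at hno
  have hT : ∀ v, (∀ t ∈ T, φ t v = v) → v = 1 := fun v hv => by
    by_contra h1
    obtain ⟨t, ht, hne⟩ := hno v h1
    exact hne (hv t ht)
  have hnorm : ∀ (S : Subgroup H) [Fintype S], (∀ v, (∀ s ∈ S, φ s v = v) → v = 1) →
      ∀ w : V, ∏ s : S, φ s w = 1 := fun S _ hS w => hS _ fun s hs => by
    rw [map_prod]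
    exact Fintype.prod_equiv (Equiv.mulLeft (⟨s, hs⟩ : S)) _ _ fun x => (happ s x w).symm
  obtain ⟨v, hv⟩ := hV
  apply hv
  apply hcop
  have h1 : ∏ m : M, ∏ t : T, φ ((m : H) * t * (m : H)⁻¹) v = 1 :=
    Finset.prod_eq_one fun m _ => by
      simp only [happ]
      rw [← map_prod, hnorm T hT, map_one]
  rw [Finset.prod_comm, Finset.prod_eq_single (1 : T) ?_ (fun h => absurd (Finset.mem_univ _) h)] at h1
  · simpa [Nat.card_eq_fintype_card] using h1
  · intro t _ ht
    let e : M → M := fun m =>
      ⟨(m : H) * ((t : H) * (m : H)⁻¹ * (t : H)⁻¹), M.mul_mem m.2 (hTM t t.2 _ (M.inv_mem m.2))⟩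
    have he : Function.Injective e := by
      intro a b hab
      have h2 : (a : H) * ((t : H) * (a : H)⁻¹ * (t : H)⁻¹) = b * ((t : H) * (b : H)⁻¹ * (t : H)⁻¹) :=
        congrArg Subtype.val hab
      have h3 : (t : H) * ((a : H)⁻¹ * b) = (a : H)⁻¹ * b * t := by
        calc (t : H) * ((a : H)⁻¹ * b)
            = (a : H)⁻¹ * ((a : H) * ((t : H) * (a : H)⁻¹ * (t : H)⁻¹)) * t * b := by group
          _ = (a : H)⁻¹ * ((b : H) * ((t : H) * (b : H)⁻¹ * (t : H)⁻¹)) * t * b := by rw [h2]
          _ = (a : H)⁻¹ * b * t := by group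
      exact Subtype.ext (inv_mul_eq_one.1 (hfpf t t.2 (fun h => ht (Subtype.ext h)) _
        (M.mul_mem (M.inv_mem a.2) b.2) h3))
    refine (Fintype.prod_equiv (Equiv.ofBijective e (Finite.injective_iff_bijective.1 he))
      (fun m : M => φ ((m : H) * t * (m : H)⁻¹) v) (fun m : M => φ m (φ t v)) fun m => ?_).trans
        (hnorm M hM _)
    rw [← happ]
    exact congrArg (fun x => φ x v) (by simp [e, mul_assoc])

/-- An abelian group of automorphisms without fixed points is cyclic. -/
theorem isCyclic_of_fpf [Finite V] {B : Type*} [Group B] [Finite B] (φ : B →* MulAut V)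
    (hB : ∀ a b : B, a * b = b * a) (hfpf : ∀ b, b ≠ 1 → ∀ v, φ b v = v → v = 1)
    (hV : ∃ v : V, v ≠ 1) : IsCyclic B := by
  haveI : Finite (V ⋊[φ] B) := Finite.of_equiv _ SemidirectProduct.equivProd.symm
  let inl : V →* V ⋊[φ] B := SemidirectProduct.inl
  let inr : B →* V ⋊[φ] B := SemidirectProduct.inr
  haveI : inl.range.Normal := by
    rw [SemidirectProduct.range_inl_eq_ker_rightHom]; infer_instance
  haveI : IsMulCommutative inr.range := ⟨⟨by
    rintro ⟨_, a, rfl⟩ ⟨_, b, rfl⟩
    exact Subtype.ext (by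
      show inr a * inr b = inr b * inr a
      rw [← map_mul, ← map_mul, hB])⟩⟩
  obtain ⟨v₀, hv₀⟩ := hV
  have hcyc := CfsgLib.Solvable.isCyclic_of_fpf_comm (K := inl.range) (H := inr.range)
    (fun h => hv₀ (SemidirectProduct.inl_injective (φ := φ)
      ((Subgroup.mem_bot.1 (h ▸ ⟨v₀, rfl⟩ : inl v₀ ∈ (⊥ : Subgroup (V ⋊[φ] B)))).trans
        (map_one inl).symm)))
    (fun x hx hx1 => by
      obtain ⟨b, rfl⟩ := hx
      rw [eq_bot_iff]
      rintro _ ⟨⟨v, rfl⟩, hc⟩
      have hb : b ≠ 1 := fun h => hx1 (by rw [h, map_one])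
      have h2 : inr b * inl v = inl v * inr b :=
        (Subgroup.mem_centralizer_singleton_iff.1 hc).symm
      have h3 := congrArg SemidirectProduct.left h2
      simp [inl, inr, SemidirectProduct.mul_left] at h3
      rw [hfpf b hb v h3, map_one]
      exact one_mem _) le_rfl
  exact isCyclic_of_surjective (MonoidHom.ofInjective (f := inr) SemidirectProduct.inr_injective).symm
    (MulEquiv.surjective _)

/-- Horner evaluation of the polynomial with coefficients `c`, of length `k`. -/
def horner (e : V →* V) : ℕ → (ℕ → V) → V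
  | 0, _ => 1
  | k + 1, c => c 0 * e (horner e k fun l => c (l + 1))

theorem horner_mul (e : V →* V) : ∀ (k : ℕ) (c c' : ℕ → V),
    horner e k (fun l => c l * c' l) = horner e k c * horner e k c'
  | 0, _, _ => (one_mul _).symm
  | k + 1, c, c' => by
    simp only [horner]
    rw [horner_mul e k, map_mul, mul_mul_mul_comm]

theorem horner_one (e : V →* V) : ∀ k : ℕ, horner e k (fun _ => 1) = 1
  | 0 => rfl
  | k + 1 => by simp only [horner]; rw [horner_one e k, map_one, one_mul]

/-- An operator carrying `e` to `e'` and fixing the coefficients carries one evaluation to the other. -/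
theorem map_horner (σ e e' : V →* V) (h : ∀ v, σ (e v) = e' (σ v)) :
    ∀ (k : ℕ) (c : ℕ → V), (∀ l, σ (c l) = c l) → σ (horner e k c) = horner e' k c
  | 0, _, _ => map_one σ
  | k + 1, c, hc => by
    simp only [horner]
    rw [map_mul, hc, h, map_horner σ e e' h k _ fun l => hc _]

/-- The coefficients of the quotient of a polynomial by `X - e`. -/
def quo (e : V →* V) (k : ℕ) (c : ℕ → V) (l : ℕ) : V := horner e (k - l) fun i => c (l + 1 + i)

theorem horner_div (e e₀ : V →* V) (h : ∀ v, e (e₀ v) = e₀ (e v)) : ∀ (k : ℕ) (c : ℕ → V),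
    horner e (k + 1) c / horner e₀ (k + 1) c =
      e (horner e k (quo e₀ k c)) / e₀ (horner e k (quo e₀ k c))
  | 0, c => by simp [horner]
  | k + 1, c => by
    have ih := horner_div e e₀ h k fun l => c (l + 1)
    have hq : (fun l => quo e₀ (k + 1) c (l + 1)) = quo e₀ k (fun l => c (l + 1)) := by
      funext l
      simp only [quo]
      rw [Nat.add_sub_add_right]
      congr 1
      funext i
      congr 1
      omega
    have hq0 : quo e₀ (k + 1) c 0 = horner e₀ (k + 1) fun l => c (l + 1) := by
      simp only [quo]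
      rw [Nat.sub_zero]
      congr 1
      funext i
      congr 1
      omega
    rw [show horner e (k + 1) (quo e₀ (k + 1) c) =
      quo e₀ (k + 1) c 0 * e (horner e k fun l => quo e₀ (k + 1) c (l + 1)) from rfl, hq, hq0]
    rw [show horner e (k + 1 + 1) c = c 0 * e (horner e (k + 1) fun l => c (l + 1)) from rfl,
      show horner e₀ (k + 1 + 1) c = c 0 * e₀ (horner e₀ (k + 1) fun l => c (l + 1)) from rfl,
      mul_div_mul_left_eq_div, eq_mul_of_div_eq' ih]
    simp only [map_mul, map_div, h]
    rw [div_eq_mul_inv, div_eq_mul_inv, div_eq_mul_inv, mul_inv]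
    ac_rfl

/-- A polynomial vanishing at as many operators with injective differences as it has coefficients is zero. -/
theorem horner_eq_one : ∀ (k : ℕ) (e : ℕ → V →* V), (∀ i j v, e i (e j v) = e j (e i v)) →
    (∀ i < k, ∀ j < k, i ≠ j → ∀ v, e i v = e j v → v = 1) →
    ∀ c : ℕ → V, (∀ i < k, horner (e i) k c = 1) → ∀ l < k, c l = 1
  | 0, _, _, _, _, _, l, hl => absurd hl (Nat.not_lt_zero l)
  | k + 1, e, hc, hd, c, h, l, hl => by
    have hq : ∀ i < k, quo (e k) k c i = 1 :=
      horner_eq_one k e hc (fun i hi j hj => hd i (hi.trans k.lt_succ_self) j (hj.trans k.lt_succ_self))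
        _ fun i hi => by
          refine hd i (hi.trans k.lt_succ_self) k k.lt_succ_self hi.ne _ (div_eq_one.1 ?_)
          rw [← horner_div (e i) (e k) (hc i k), h i (hi.trans k.lt_succ_self), h k k.lt_succ_self,
            div_one]
    have hq' : ∀ i ≤ k, quo (e k) k c i = 1 := fun i hi => by
      rcases hi.lt_or_eq with h' | rfl
      · exact hq i h'
      · simp [quo, horner]
    have hsucc : ∀ i < k, c (i + 1) = 1 := fun i hi => by
      have h2 := hq' i hi.le
      have h3 := hq' (i + 1) hi
      unfold quo at h2 h3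
      rw [show k - i = (k - (i + 1)) + 1 by omega] at h2
      simp only [horner, add_zero] at h2
      rw [show (fun l => c (i + 1 + (l + 1))) = fun l => c (i + 1 + 1 + l) from
        funext fun l => congrArg c (by omega), h3, map_one, mul_one] at h2
      exact h2
    rcases l with _ | l
    · have h0 := h k k.lt_succ_self
      simp only [horner] at h0
      have h1 := hq' 0 (Nat.zero_le k)
      unfold quo at h1
      rw [Nat.sub_zero, show (fun i => c (0 + 1 + i)) = fun l => c (l + 1) from
        funext fun i => congrArg c (by omega)] at h1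
      rwa [h1, map_one, mul_one] at h0
    · exact hsucc l (by omega)

/-- The arithmetic bound for a fixed space whose `k` translates are independent. -/
theorem sq_mul_pred_le {k x : ℕ} (hk : 2 ≤ k) (hx : 1 ≤ x) : (k * (x - 1)) ^ 2 ≤ 4 * x ^ k := by
  induction k, hk using Nat.le_induction with
  | base =>
    have : x - 1 ≤ x := Nat.sub_le _ _
    rw [mul_pow]
    exact Nat.mul_le_mul (by norm_num) (Nat.pow_le_pow_left this 2)
  | succ k hk ih =>
    obtain rfl | rfl | hx3 : x = 1 ∨ x = 2 ∨ 3 ≤ x := by omega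
    · simp
    · -- `k ^ 2 ≤ 4 * 2 ^ k`
      have key : ∀ j : ℕ, (j + 1) ^ 2 ≤ 4 * 2 ^ (j + 1) := fun j => by
        induction j with
        | zero => norm_num
        | succ j ihj =>
          have h1 : 2 ^ (j + 1 + 1) = 2 * 2 ^ (j + 1) := pow_succ' 2 (j + 1)
          by_cases hj : j < 2
          · interval_cases j <;> norm_num
          · nlinarith
      simpa using key k
    · rw [mul_pow, pow_succ' x k]
      rw [mul_pow] at ih
      have h1 : (k + 1) ^ 2 ≤ x * k ^ 2 := by nlinarith
      calc (k + 1) ^ 2 * (x - 1) ^ 2 ≤ x * k ^ 2 * (x - 1) ^ 2 := Nat.mul_le_mul_right _ h1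
        _ = x * (k ^ 2 * (x - 1) ^ 2) := mul_assoc _ _ _
        _ ≤ x * (4 * x ^ k) := Nat.mul_le_mul_left _ ih
        _ = 4 * (x * x ^ k) := by ring

end CfsgLib.NoDivDegrees.LOne
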