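import Cfsg.Agent.NoDivDegrees.LOne.Fixed
import Cfsg.Agent.NoDivDegrees.LOne.Frame
import Cfsg.Agent.OddOrderChar.Clifford

/-!
# The orbits on the linear characters of the derived subgroup

All nontrivial ones have stabilisers of one index, and the elements outside `K` fixing them lie in one coset.
-/

set_option autoImplicit false
set_option linter.style.haveILetI false
set_option linter.unusedSectionVars false

namespace CfsgLib.NoDivDegrees.LOne

open CfsgLib.Characters CfsgLib.OddOrderChar CfsgLib.CharactersDeep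
open scoped commutatorElement

universe u

variable {G : Type u} [Group G] [Fintype G]

/-- The action on the linear characters of a normal subgroup. -/
noncomputable def act (N : Subgroup G) [N.Normal] : G →* MulAut (N →* ℂˣ) :=
  MonoidHom.mk' (fun g => MulEquiv.mk'
    { toFun := TwoComponents73.cact N g
      invFun := TwoComponents73.cact N g⁻¹
      left_inv := fun l => by rw [← TwoComponents73.cact_mul, inv_mul_cancel, TwoComponents73.cact_one]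
      right_inv := fun l => by rw [← TwoComponents73.cact_mul, mul_inv_cancel, TwoComponents73.cact_one] }
    (map_mul (TwoComponents73.cact N g)))
    fun a b => MulEquiv.ext fun l => TwoComponents73.cact_mul N a b l

theorem act_apply (N : Subgroup G) [N.Normal] (g : G) (l : N →* ℂˣ) :
    act N g l = TwoComponents73.cact N g l := rfl

theorem act_eq_iff (N : Subgroup G) [N.Normal] {g : G} {l : N →* ℂˣ} :
    act N g l = l ↔ g ∈ TwoDegrees73.stab N l := TwoComponents73.cact_eq_iff N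

theorem act_self (N : Subgroup G) [N.Normal] {g : G} (hg : g ∈ N) : act N g = 1 :=
  MulEquiv.ext fun l => TwoComponents73.cact_self N ⟨g, hg⟩ l

theorem act_div (N : Subgroup G) [N.Normal] (g : G) (x y : N →* ℂˣ) :
    act N g (x / y) = act N g x / act N g y := map_div (act N g : (N →* ℂˣ) ≃* (N →* ℂˣ)) x y

variable (K : Subgroup G) [K.Normal]

/-- The number of cosets of `K` meeting the stabiliser. -/
noncomputable def jj (v : ↥⁅K, K⁆ →* ℂˣ) : ℕ :=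
  Nat.card ((TwoDegrees73.stab ⁅K, K⁆ v).map (QuotientGroup.mk' K))

variable {K} {R M D : Subgroup G} (B : Base K) (F : Frame K R M D)

include B F

theorem exists_M : ∃ m ∈ M, m ∉ K0 K := by
  by_contra hall
  push Not at hall
  have h1 : M = ⊥ := (Subgroup.eq_bot_iff_forall M).2 fun m hm => F.M_K0 m hm (hall m hm)
  have h2 := F.M_card
  rw [h1, Subgroup.card_bot] at h2
  exact B.K0_lt (le_antisymm (K0_le K) (Subgroup.relIndex_eq_one.1 h2.symm))

/-- Elements of `K` outside `K0` fix no nontrivial linear character. -/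
theorem eq_one_of_fix {a : G} (ha : a ∈ K) (ha0 : a ∉ K0 K) {v : ↥⁅K, K⁆ →* ℂˣ}
    (hv : act ⁅K, K⁆ a v = v) : v = 1 := by
  rw [act_eq_iff, TwoDegrees73.mem_stab] at hv
  refine MonoidHom.ext fun x => ?_
  obtain ⟨y, hy, hyx⟩ := F.fpf a ha ha0 (v.ker.map (⁅K, K⁆).subtype) (Subgroup.map_subtype_le _)
    (by
      rintro _ ⟨w, hw, rfl⟩
      exact ⟨⟨_, (inferInstance : (⁅K, K⁆).Normal).conj_mem w w.2 a⟩,
        MonoidHom.mem_ker.2 ((hv w).trans hw), rfl⟩)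
    x x.2
    ⟨x⁻¹ * ⟨a * x * a⁻¹, (inferInstance : (⁅K, K⁆).Normal).conj_mem x x.2 a⟩, MonoidHom.mem_ker.2
      (by rw [map_mul, map_inv, hv x, inv_mul_cancel]), rfl⟩
  rw [← Subtype.ext (hyx : (y : G) = x)]
  exact hy

theorem act_comm {b : G} (hb : b ∈ R) (hb0 : b ∈ K0 K) (g : G) (v : ↥⁅K, K⁆ →* ℂˣ) :
    act ⁅K, K⁆ g (act ⁅K, K⁆ b v) = act ⁅K, K⁆ b (act ⁅K, K⁆ g v) := by
  obtain ⟨c, hc, r, hr, rfl⟩ := F.sup g
  rw [map_mul, act_self _ hc, one_mul, ← MulAut.mul_apply, ← MulAut.mul_apply, ← map_mul, ← map_mul,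
    F.central b hb hb0 r hr]

/-- Linear extensions of linear characters to their stabilisers. -/
theorem exists_extension (v : ↥⁅K, K⁆ →* ℂˣ) :
    ∃ ν : ↥(TwoDegrees73.stab ⁅K, K⁆ v) →* ℂˣ, ∀ (n : ↥⁅K, K⁆)
      (h : (n : G) ∈ TwoDegrees73.stab ⁅K, K⁆ v), ν ⟨n, h⟩ = v n := by
  choose c hc r hr hcr using F.sup
  have huniq : ∀ {n m s t : G}, n ∈ ⁅K, K⁆ → m ∈ ⁅K, K⁆ → s ∈ R → t ∈ R → n * s = m * t → n = m := by
    intro n m s t hn hm hs ht e
    have e2 : m⁻¹ * n = t * s⁻¹ := by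
      calc m⁻¹ * n = m⁻¹ * (n * s) * s⁻¹ := by group
        _ = t * s⁻¹ := by rw [e]; group
    exact (inv_mul_eq_one.1 (F.inf _ (e2 ▸ R.mul_mem ht (R.inv_mem hs))
      ((⁅K, K⁆).mul_mem ((⁅K, K⁆).inv_mem hm) hn))).symm
  refine ⟨MonoidHom.mk' (fun x => v ⟨c x, hc x⟩) fun x y => ?_, fun n h => congrArg v (Subtype.ext ?_)⟩
  · have hrx : r (x : G) ∈ TwoDegrees73.stab ⁅K, K⁆ v := by
      rw [show r (x : G) = (c x)⁻¹ * x by rw [eq_inv_mul_iff_mul_eq, ← hcr]]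
      exact Subgroup.mul_mem _ (Subgroup.inv_mem _ (by rw [← act_eq_iff, act_self _ (hc x)]; rfl)) x.2
    have hmem := (inferInstance : (⁅K, K⁆).Normal).conj_mem _ (hc y) (r (x : G))
    have e := huniq ((⁅K, K⁆).mul_mem (hc x) hmem) (hc ((x : G) * y)) (R.mul_mem (hr x) (hr y))
      (hr ((x : G) * y)) (by
        rw [← hcr]
        conv_rhs => rw [hcr (x : G), hcr (y : G)]
        group)
    show v ⟨c ((x * y : ↥(TwoDegrees73.stab ⁅K, K⁆ v)) : G), _⟩ = _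
    rw [show (⟨c ((x * y : ↥(TwoDegrees73.stab ⁅K, K⁆ v)) : G), hc _⟩ : ↥⁅K, K⁆) =
      ⟨c x, hc x⟩ * ⟨_, hmem⟩ from Subtype.ext e.symm, map_mul]
    congr 1
    exact TwoDegrees73.mem_stab _ |>.1 hrx ⟨c y, hc y⟩
  · exact (huniq n.2 (hc n) R.one_mem (hr n) (by rw [mul_one, ← hcr])).symm

theorem one_lt_index {v : ↥⁅K, K⁆ →* ℂˣ} (hv : v ≠ 1) : 1 < (TwoDegrees73.stab ⁅K, K⁆ v).index := by
  obtain ⟨m, hm, hm0⟩ := exists_M B F
  have h1 : (TwoDegrees73.stab ⁅K, K⁆ v).index ≠ 1 := fun h => hv (eq_one_of_fix B F (F.M_le hm).2 hm0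
    ((act_eq_iff _).2 (Subgroup.index_eq_one.1 h ▸ Subgroup.mem_top m)))
  have h0 : (TwoDegrees73.stab ⁅K, K⁆ v).index ≠ 0 := Subgroup.index_ne_zero_of_finite
  omega

/-- The index of a stabiliser is a degree. -/
theorem index_mem (v : ↥⁅K, K⁆ →* ℂˣ) : (TwoDegrees73.stab ⁅K, K⁆ v).index ∈ Cfsg.charDegrees G := by
  classical
  set T := TwoDegrees73.stab ⁅K, K⁆ v
  obtain ⟨ν, hν⟩ : ∃ ν : ↥T →* ℂˣ, ∀ (n : ↥⁅K, K⁆) (h : (n : G) ∈ T), ν ⟨n, h⟩ = v n :=
    exists_extension B F v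
  haveI := Fintype.ofFinite T
  haveI := Fintype.ofFinite (↥⁅K, K⁆)
  haveI := Fintype.ofFinite ((⁅K, K⁆).subgroupOf T)
  have hT : ∀ g : G, g ∈ T ↔ conjBy ⁅K, K⁆ (fun n => (v n : ℂ)) g = fun n => (v n : ℂ) :=
    fun g => TwoDegrees73.mem_stab_iff_conjBy _
  have hNT := inertia_le ⁅K, K⁆ (isClassFunction_of_isIrr (isIrr_linChar v)) T hT
  have he : (fun x : (⁅K, K⁆).subgroupOf T => ((ν x : ℂˣ) : ℂ)) =
      onSubgroupOf ⁅K, K⁆ T fun n => (v n : ℂ) := funext fun x =>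
    congrArg Units.val (hν ⟨((x : T) : G), Subgroup.mem_subgroupOf.1 x.2⟩ x.1.2)
  obtain ⟨h, -, -⟩ := clifford_correspondence ⁅K, K⁆ T (isIrr_linChar v) hT (isIrr_linChar ν)
    (by rw [he, classInner_isIrr_self (isIrr_onSubgroupOf _ _ hNT (isIrr_linChar v))]; exact one_ne_zero)
  refine DegreeGraph.mem_charDegrees h ?_
  rw [OddOrderChar.indFun_one, map_one, Units.val_one, mul_one]

theorem stab_eq_of_le {v w : ↥⁅K, K⁆ →* ℂˣ} (hw : w ≠ 1)
    (hle : TwoDegrees73.stab ⁅K, K⁆ v ≤ TwoDegrees73.stab ⁅K, K⁆ w) :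
    TwoDegrees73.stab ⁅K, K⁆ v = TwoDegrees73.stab ⁅K, K⁆ w := by
  have e := B.nd.eq_of_dvd (index_mem B F w) (index_mem B F v) (one_lt_index B F hw)
    (Subgroup.index_dvd_of_le hle)
  refine Subgroup.eq_of_le_of_card_ge hle (le_of_eq ?_)
  have h1 := (TwoDegrees73.stab ⁅K, K⁆ v).index_mul_card
  have h2 := (TwoDegrees73.stab ⁅K, K⁆ w).index_mul_card
  rw [e, ← h1] at h2
  exact Nat.eq_of_mul_eq_mul_left (Nat.pos_of_ne_zero Subgroup.index_ne_zero_of_finite) h2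

/-- An element of `K` fixing a nontrivial linear character fixes all. -/
theorem act_eq_one {g : G} (hg : g ∈ K) {v : ↥⁅K, K⁆ →* ℂˣ} (hv : v ≠ 1)
    (hfix : act ⁅K, K⁆ g v = v) : act ⁅K, K⁆ g = 1 := by
  have hg0 : g ∈ K0 K := by_contra fun h => hv (eq_one_of_fix B F hg h hfix)
  obtain ⟨c, hc, b, hb, rfl⟩ := F.sup g
  have hb0 : b ∈ K0 K := by
    simpa using (K0 K).mul_mem ((K0 K).inv_mem (commutator_le_K0 K hc)) hg0
  rw [map_mul, act_self _ hc, one_mul] at hfix ⊢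
  by_contra hne
  obtain ⟨w, hw⟩ : ∃ w, act ⁅K, K⁆ b w ≠ w := by
    by_contra hall
    push Not at hall
    exact hne (MulEquiv.ext hall)
  set φ := act ⁅K, K⁆ b with hφ
  -- `φ x / x` is fixed by `φ` only if it is trivial
  have key : ∀ x, φ (φ x / x) = φ x / x → φ x = x := by
    intro x hx
    by_contra h1
    have hx1 : x ≠ 1 := fun h => h1 (by rw [h, map_one])
    have hle : TwoDegrees73.stab ⁅K, K⁆ x ≤ TwoDegrees73.stab ⁅K, K⁆ (φ x / x) := fun r hr => by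
      rw [← act_eq_iff] at hr ⊢
      rw [act_div, hφ, act_comm B F hb hb0, hr]
    have hb' : b ∈ TwoDegrees73.stab ⁅K, K⁆ (φ x / x) := (act_eq_iff _).1 hx
    rw [← stab_eq_of_le B F (fun h => h1 (div_eq_one.1 h)) hle] at hb'
    exact h1 ((act_eq_iff _).2 hb')
  set β := φ w / w with hβ
  have hβ1 : β ≠ 1 := fun h => hw (div_eq_one.1 h)
  have hind : ∀ p q, φ p = p → φ q / q = p → p = 1 := fun p q hp hq => by
    rw [← hq, key q (hq.symm ▸ hp)]; exact (div_eq_one (a := q) (b := q)).2 rfl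
  have hle : TwoDegrees73.stab ⁅K, K⁆ (v * β) ≤ TwoDegrees73.stab ⁅K, K⁆ v := fun r hr => by
    rw [← act_eq_iff] at hr ⊢
    rw [map_mul] at hr
    have e1 : act ⁅K, K⁆ r v / v = β / act ⁅K, K⁆ r β := by
      refine (div_eq_div_iff_mul_eq_mul (a := act ⁅K, K⁆ r v) (b := v) (c := β)
        (d := act ⁅K, K⁆ r β)).2 ?_
      rw [hr]
      exact mul_comm v β
    refine div_eq_one.1 (hind _ (w / act ⁅K, K⁆ r w) ?_ ?_)
    · rw [hφ, act_div, ← act_comm B F hb hb0, ← hφ, hfix]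
    · rw [e1, hβ, hφ, act_div, act_div, act_comm B F hb hb0]
      exact @div_div_div_comm (↥⁅K, K⁆ →* ℂˣ) _ _ _ _ _
  have hb' : b ∈ TwoDegrees73.stab ⁅K, K⁆ v := (act_eq_iff _).1 hfix
  rw [← stab_eq_of_le B F hv hle, ← act_eq_iff, map_mul, ← hφ, hfix] at hb'
  exact hβ1 (hind β w (mul_left_cancel hb') rfl)

theorem stab_inf_K {v : ↥⁅K, K⁆ →* ℂˣ} (hv : v ≠ 1) :
    TwoDegrees73.stab ⁅K, K⁆ v ⊓ K = K ⊓ (act ⁅K, K⁆).ker := by
  ext g
  refine ⟨fun hg => ⟨hg.2, MonoidHom.mem_ker.2 (act_eq_one B F hg.2 hv ((act_eq_iff _).2 hg.1))⟩,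
    fun hg => ⟨(act_eq_iff _).1 ?_, hg.1⟩⟩
  rw [MonoidHom.mem_ker.1 hg.2, MulAut.one_apply]

theorem index_mul_jj {v : ↥⁅K, K⁆ →* ℂˣ} (hv : v ≠ 1) :
    (TwoDegrees73.stab ⁅K, K⁆ v).index * jj K v = K.index * (K ⊓ (act ⁅K, K⁆).ker).relIndex K := by
  set T := TwoDegrees73.stab ⁅K, K⁆ v
  set Z := K ⊓ (act ⁅K, K⁆).ker with hZ
  let q : T →* G ⧸ K := (QuotientGroup.mk' K).comp T.subtype
  have hq : q.ker = K.subgroupOf T := by ext t; simp [q, Subgroup.mem_subgroupOf]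
  have hqr : q.range = T.map (QuotientGroup.mk' K) := by
    rw [MonoidHom.range_comp, Subgroup.range_subtype]
  have h1 : Nat.card (K.subgroupOf T) * jj K v = Nat.card T := by
    have := (K.subgroupOf T).card_mul_index
    rwa [show (K.subgroupOf T).index = jj K v by rw [← hq, Subgroup.index_ker, hqr]; rfl] at this
  have h2 : Nat.card (K.subgroupOf T) = Nat.card Z := by
    rw [← Subgroup.inf_subgroupOf_right K T, inf_comm, stab_inf_K B F hv]
    exact Nat.card_congr (Subgroup.subgroupOfEquivOfLe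
      ((stab_inf_K B F hv).symm.le.trans inf_le_left)).toEquiv
  have h3 : Nat.card Z * Z.relIndex K = Nat.card K := by
    have := (Z.subgroupOf K).card_mul_index
    rwa [Nat.card_congr (Subgroup.subgroupOfEquivOfLe (inf_le_left : Z ≤ K)).toEquiv] at this
  refine Nat.eq_of_mul_eq_mul_left (Nat.card_pos (α := Z)) ?_
  calc Nat.card Z * (T.index * jj K v) = T.index * (Nat.card (K.subgroupOf T) * jj K v) := by
        rw [h2]; ring
    _ = K.index * (Nat.card Z * Z.relIndex K) := by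
        rw [h1, h3, T.index_mul_card, K.index_mul_card]
    _ = _ := by ring

/-- `[K : kernel]` is `[K : K0]` times the number of operators coming from `R ⊓ K0`. -/
theorem relIndex_ker (hV : ∃ v : ↥⁅K, K⁆ →* ℂˣ, v ≠ 1) : (K ⊓ (act ⁅K, K⁆).ker).relIndex K =
    (K0 K).relIndex K * Nat.card ((R ⊓ K0 K).map (act ⁅K, K⁆)) := by
  obtain ⟨v, hv⟩ := hV
  have hle : K ⊓ (act ⁅K, K⁆).ker ≤ K0 K := fun g hg => by_contra fun h => hv
    (eq_one_of_fix B F hg.1 h (by rw [MonoidHom.mem_ker.1 hg.2, MulAut.one_apply]))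
  rw [← Subgroup.relIndex_mul_relIndex _ _ _ hle (K0_le K), mul_comm]
  congr 1
  have hmap : (R ⊓ K0 K).map (act ⁅K, K⁆) = (K0 K).map (act ⁅K, K⁆) := by
    refine le_antisymm (Subgroup.map_mono inf_le_right) ?_
    rintro _ ⟨g, hg, rfl⟩
    obtain ⟨c, hc, b, hb, rfl⟩ := F.sup g
    refine ⟨b, ⟨hb, by simpa using (K0 K).mul_mem ((K0 K).inv_mem (commutator_le_K0 K hc)) hg⟩, ?_⟩
    rw [map_mul, act_self _ hc, one_mul]
  let q : K0 K →* MulAut (↥⁅K, K⁆ →* ℂˣ) := (act ⁅K, K⁆).comp (K0 K).subtype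
  have hq : (K ⊓ (act ⁅K, K⁆).ker).subgroupOf (K0 K) = q.ker := by
    ext g
    rw [Subgroup.mem_subgroupOf, MonoidHom.mem_ker, Subgroup.mem_inf, MonoidHom.mem_ker]
    exact ⟨fun h => h.2, fun h => ⟨K0_le K g.2, h⟩⟩
  rw [hmap, Subgroup.relIndex, hq, Subgroup.index_ker, MonoidHom.range_comp, Subgroup.range_subtype]

/-- A complement fixes a nontrivial linear character. -/
theorem exists_fix_all (hV : ∃ v : ↥⁅K, K⁆ →* ℂˣ, v ≠ 1) {T : Subgroup G} (hT : T ≤ R)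
    (hTK : ∀ t ∈ T, t ∈ K → act ⁅K, K⁆ t = 1) :
    ∃ v : ↥⁅K, K⁆ →* ℂˣ, v ≠ 1 ∧ T ≤ TwoDegrees73.stab ⁅K, K⁆ v := by
  classical
  haveI : Finite (MulAut (↥⁅K, K⁆ →* ℂˣ)) := Finite.of_injective
    (fun e => (e : (↥⁅K, K⁆ →* ℂˣ) → (↥⁅K, K⁆ →* ℂˣ))) DFunLike.coe_injective
  obtain ⟨v₀, hv₀⟩ := hV
  have hker : ∀ m ∈ M, act ⁅K, K⁆ m = 1 → m = 1 := fun m hm h => F.M_K0 m hm
    (by_contra fun h0 => hv₀ (eq_one_of_fix B F (F.M_le hm).2 h0 (by rw [h, MulAut.one_apply])))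
  obtain ⟨v, hv, hfix⟩ := exists_fixed (MonoidHom.id (MulAut (↥⁅K, K⁆ →* ℂˣ)))
    (M.map (act ⁅K, K⁆)) (T.map (act ⁅K, K⁆))
    (by
      rintro _ ⟨t, ht, rfl⟩ _ ⟨m, hm, rfl⟩
      exact ⟨t * m * t⁻¹, F.M_conj t (hT ht) m hm, by rw [map_mul, map_mul, map_inv]⟩)
    (by
      rintro _ ⟨t, ht, rfl⟩ ht1 _ ⟨m, hm, rfl⟩ hc
      have htK : t ∉ K := fun h => ht1 (hTK t ht h)
      have h2 : ⁅t, m⁆ = 1 := by
        refine hker _ ?_ (by
          rw [map_commutatorElement, commutatorElement_eq_one_iff_mul_comm]; exact hc)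
        rw [commutatorElement_def]
        exact M.mul_mem (F.M_conj t (hT ht) m hm) (M.inv_mem hm)
      rw [F.M_fpf t (hT ht) htK m hm (commutatorElement_eq_one_iff_mul_comm.1 h2), map_one])
    (fun v hv => by
      obtain ⟨m, hm, hm0⟩ := exists_M B F
      exact eq_one_of_fix B F (F.M_le hm).2 hm0 (hv _ ⟨m, hm, rfl⟩))
    (fun v hv => by
      refine orderOf_eq_one_iff.1 (Nat.eq_one_of_dvd_coprimes F.coprime
        ((orderOf_dvd_of_pow_eq_one hv).trans ?_) (orderOf_dvd_of_pow_eq_one ?_))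
      · rw [← F.M_card]; exact Subgroup.card_map_dvd M _
      · exact MonoidHom.ext fun x => by
          rw [MonoidHom.pow_apply, ← map_pow, pow_card_eq_one', map_one, MonoidHom.one_apply])
    ⟨v₀, hv₀⟩
  exact ⟨v, hv, fun t ht => (act_eq_iff _).1 (hfix _ ⟨t, ht, rfl⟩)⟩

/-- A translate is fixed by an element of `D` of any given class modulo `K` met by the stabiliser. -/
theorem exists_conj {v : ↥⁅K, K⁆ →* ℂˣ} (hv : v ≠ 1) {ζ : G ⧸ K}
    (hζ : ζ ∈ (TwoDegrees73.stab ⁅K, K⁆ v).map (QuotientGroup.mk' K)) :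
    ∃ m ∈ M, ∃ d ∈ D, (d : G ⧸ K) = ζ ∧ act ⁅K, K⁆ d (act ⁅K, K⁆ m v) = act ⁅K, K⁆ m v ∧
      act ⁅K, K⁆ (d ^ jj K v) = 1 := by
  obtain ⟨t, ht, rfl⟩ := hζ
  have hpow : (t : G ⧸ K) ^ jj K v = 1 := by
    have h1 := pow_card_eq_one'
      (x := (⟨(t : G ⧸ K), ⟨t, ht, rfl⟩⟩ : (TwoDegrees73.stab ⁅K, K⁆ v).map (QuotientGroup.mk' K)))
    simpa [jj] using congrArg Subtype.val h1
  by_cases htK : t ∈ K
  · refine ⟨1, M.one_mem, 1, D.one_mem, ?_, by simp, by simp⟩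
    rw [QuotientGroup.mk'_apply, (QuotientGroup.eq_one_iff t).2 htK, QuotientGroup.mk_one]
  obtain ⟨c, hc, r, hr, rfl⟩ := F.sup t
  have hrK : r ∉ K := fun h => htK (K.mul_mem (Subgroup.commutator_le_self K hc) h)
  obtain ⟨m, hm, hd⟩ := F.D_conj r hr hrK
  have hrfix : act ⁅K, K⁆ r v = v := by
    have := (act_eq_iff _).2 ht
    rwa [map_mul, act_self _ hc, one_mul] at this
  have hmK : (m : G ⧸ K) = 1 := (QuotientGroup.eq_one_iff m).2 (F.M_le hm).2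
  have hrc : (r : G ⧸ K) = ((c * r : G) : G ⧸ K) := by
    rw [QuotientGroup.mk_mul, (QuotientGroup.eq_one_iff c).2 (Subgroup.commutator_le_self K hc), one_mul]
  have hdfix : act ⁅K, K⁆ (m * r * m⁻¹) (act ⁅K, K⁆ m v) = act ⁅K, K⁆ m v := by
    rw [← MulAut.mul_apply, ← map_mul, inv_mul_cancel_right, map_mul, MulAut.mul_apply, hrfix]
  refine ⟨m, hm, _, hd, by
    rw [QuotientGroup.mk'_apply, ← hrc, QuotientGroup.mk_mul, QuotientGroup.mk_mul, QuotientGroup.mk_inv, hmK,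
      one_mul, inv_one, mul_one], hdfix, act_eq_one B F ?_
    (v := act ⁅K, K⁆ m v) (fun h => hv ((map_eq_one_iff _ (MulEquiv.injective _)).1 h))
    ((act_eq_iff _).2 (Subgroup.pow_mem _ ((act_eq_iff _).1 hdfix) _))⟩
  rw [← QuotientGroup.eq_one_iff, QuotientGroup.mk_pow]
  rw [QuotientGroup.mk_mul, QuotientGroup.mk_mul, QuotientGroup.mk_inv, hmK, one_mul, inv_one, mul_one, hrc]
  exact hpow

/-- All stabilisers meet the same number of cosets of `K`. -/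
theorem jj_eq {v w : ↥⁅K, K⁆ →* ℂˣ} (hv : v ≠ 1) (hw : w ≠ 1) : jj K v = jj K w := by
  classical
  haveI := B.cyc
  have hgen : ∀ u : ↥⁅K, K⁆ →* ℂˣ, ∃ z ∈ (TwoDegrees73.stab ⁅K, K⁆ u).map (QuotientGroup.mk' K),
      orderOf z = jj K u := fun u => by
    obtain ⟨z, hz⟩ := IsCyclic.exists_generator
      (α := ↥((TwoDegrees73.stab ⁅K, K⁆ u).map (QuotientGroup.mk' K)))
    exact ⟨z, z.2, (Subgroup.orderOf_coe z).trans (orderOf_eq_card_of_forall_mem_zpowers hz)⟩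
  obtain ⟨z, hz, hzo⟩ := hgen v
  obtain ⟨z', hz', hzo'⟩ := hgen w
  obtain ⟨m, -, d, hd, hdz, -, hdj⟩ := exists_conj B F hv hz
  obtain ⟨m', -, d', hd', hdz', -, hdj'⟩ := exists_conj B F hw hz'
  have hcomm : Commute d d' := F.D_comm d hd d' hd'
  set e := orderOf z / Nat.factorizationLCMLeft (orderOf z) (orderOf z')
  set e' := orderOf z' / Nat.factorizationLCMRight (orderOf z) (orderOf z')
  set u := d ^ e * d' ^ e' with hu
  set l := Nat.lcm (jj K v) (jj K w)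
  letI := B.cyc.commGroup
  have hord : orderOf (u : G ⧸ K) = l := by
    rw [hu, QuotientGroup.mk_mul, QuotientGroup.mk_pow, QuotientGroup.mk_pow, hdz, hdz']
    exact ((Commute.all z z').orderOf_mul_pow_eq_lcm (orderOf_pos z).ne' (orderOf_pos z').ne').trans
      (by rw [hzo, hzo'])
  have hul : act ⁅K, K⁆ (u ^ l) = 1 := by
    obtain ⟨a, ha⟩ := Nat.dvd_lcm_left (jj K v) (jj K w)
    obtain ⟨b, hb⟩ := Nat.dvd_lcm_right (jj K v) (jj K w)
    rw [hu, (hcomm.pow_pow e e').mul_pow, map_mul]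
    conv_lhs => rw [← pow_mul, show e * l = jj K v * (a * e) by rw [show l = jj K v * a from ha]; ring,
      pow_mul, map_pow, hdj, one_pow, one_mul, ← pow_mul,
      show e' * l = jj K w * (b * e') by rw [show l = jj K w * b from hb]; ring,
      pow_mul, map_pow, hdj', one_pow]
  obtain ⟨ν, hν, hle⟩ := exists_fix_all B F ⟨v, hv⟩ (T := Subgroup.zpowers u)
    (Subgroup.zpowers_le.2 (F.D_le (D.mul_mem (D.pow_mem hd e) (D.pow_mem hd' e')))) fun t ht htK => by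
      obtain ⟨i, rfl⟩ := Subgroup.mem_zpowers_iff.1 ht
      have hi : (l : ℤ) ∣ i := by
        rw [← hord, orderOf_dvd_iff_zpow_eq_one, ← QuotientGroup.mk_zpow, QuotientGroup.eq_one_iff]
        exact htK
      obtain ⟨i', rfl⟩ := hi
      rw [zpow_mul, zpow_natCast, map_zpow, hul, one_zpow]
  have hl : l ∣ jj K ν := by
    rw [← hord]
    exact Subgroup.orderOf_dvd_natCard _ ⟨u, hle (Subgroup.mem_zpowers u), rfl⟩
  have hone : ∀ x : ↥⁅K, K⁆ →* ℂˣ, x ≠ 1 → jj K x ∣ l → jj K x = jj K ν := by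
    intro x hx hxl
    obtain ⟨a, ha⟩ := hxl.trans hl
    have e1 := index_mul_jj B F hx
    rw [← index_mul_jj B F hν, ha] at e1
    have hpos : 0 < jj K x := Nat.card_pos
    have e2 : (TwoDegrees73.stab ⁅K, K⁆ x).index = (TwoDegrees73.stab ⁅K, K⁆ ν).index * a :=
      Nat.eq_of_mul_eq_mul_right hpos (by rw [e1]; ring)
    have e3 := B.nd.eq_of_dvd (index_mem B F ν) (index_mem B F x) (one_lt_index B F hν)
      (e2 ▸ dvd_mul_right _ _)
    rw [← e3] at e1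
    rw [ha]
    exact Nat.eq_of_mul_eq_mul_left (Nat.pos_of_ne_zero Subgroup.index_ne_zero_of_finite) e1
  rw [hone v hv (Nat.dvd_lcm_left _ _), hone w hw (Nat.dvd_lcm_right _ _)]

/-- The stabilisers have one index; the elements of `D` fixing translates lie in one coset of `K`. -/
theorem exists_common (hV : ∃ v : ↥⁅K, K⁆ →* ℂˣ, v ≠ 1) :
    ∃ (a f₀ : ℕ) (ζ : G ⧸ K), 2 ≤ f₀ ∧ orderOf ζ = f₀ ∧
      ¬ f₀ ∣ Nat.card ((R ⊓ K0 K).map (act ⁅K, K⁆)) ∧
      (∀ v : ↥⁅K, K⁆ →* ℂˣ, v ≠ 1 → (TwoDegrees73.stab ⁅K, K⁆ v).index = a) ∧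
      ∀ v : ↥⁅K, K⁆ →* ℂˣ, v ≠ 1 → ∃ m ∈ M, ∃ d ∈ D, (d : G ⧸ K) = ζ ∧
        act ⁅K, K⁆ d (act ⁅K, K⁆ m v) = act ⁅K, K⁆ m v ∧ act ⁅K, K⁆ (d ^ f₀) = 1 := by
  classical
  haveI := B.cyc
  obtain ⟨v₀, hv₀⟩ := hV
  set f₀ := jj K v₀
  have hpos : 0 < f₀ := Nat.card_pos
  have hnd : ¬ f₀ ∣ Nat.card ((R ⊓ K0 K).map (act ⁅K, K⁆)) := by
    rintro ⟨b, hb⟩
    have e := index_mul_jj B F hv₀
    rw [relIndex_ker B F ⟨v₀, hv₀⟩, hb] at e
    have e1 : (TwoDegrees73.stab ⁅K, K⁆ v₀).index = K.index * ((K0 K).relIndex K * b) :=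
      Nat.eq_of_mul_eq_mul_right hpos (e.trans (by ring))
    have e2 := B.nd.eq_of_dvd B.mem (index_mem B F v₀) B.one_lt (e1 ▸ dvd_mul_right _ _)
    rw [← e2] at e1
    have e3 : (K0 K).relIndex K * b = 1 := by
      have := B.one_lt
      exact Nat.eq_of_mul_eq_mul_left (by omega : 0 < K.index) (e1.symm.trans (mul_one _).symm)
    exact B.K0_lt (le_antisymm (K0_le K) (Subgroup.relIndex_eq_one.1 (Nat.eq_one_of_mul_eq_one_right e3)))
  obtain ⟨z, hz⟩ := IsCyclic.exists_generator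
    (α := ↥((TwoDegrees73.stab ⁅K, K⁆ v₀).map (QuotientGroup.mk' K)))
  refine ⟨(TwoDegrees73.stab ⁅K, K⁆ v₀).index, f₀, z, ?_,
    (Subgroup.orderOf_coe z).trans (orderOf_eq_card_of_forall_mem_zpowers hz), hnd, fun v hv => ?_,
    fun v hv => ?_⟩
  · have : f₀ ≠ 1 := fun h => hnd (h ▸ one_dvd _)
    omega
  · have e := index_mul_jj B F hv
    rw [← index_mul_jj B F hv₀, jj_eq B F hv hv₀] at e
    exact Nat.eq_of_mul_eq_mul_right hpos e
  · -- a cyclic group has only one subgroup of each order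
    have heq : ∀ u : ↥⁅K, K⁆ →* ℂˣ, u ≠ 1 → (TwoDegrees73.stab ⁅K, K⁆ u).map (QuotientGroup.mk' K) =
        (@powMonoidHom (G ⧸ K) B.cyc.commGroup.toCommMonoid f₀).ker := fun u hu => by
      have hc : Nat.card ((TwoDegrees73.stab ⁅K, K⁆ u).map (QuotientGroup.mk' K)) = f₀ :=
        jj_eq B F hu hv₀
      refine Subgroup.eq_of_le_of_card_ge (fun x hx => ?_) ?_
      · have h1 := pow_card_eq_one'
          (x := (⟨x, hx⟩ : (TwoDegrees73.stab ⁅K, K⁆ u).map (QuotientGroup.mk' K)))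
        rw [hc] at h1
        exact congrArg Subtype.val h1
      · rw [hc]
        letI := B.cyc.commGroup
        exact (IsCyclic.card_powMonoidHom_ker (G := G ⧸ K) f₀).trans_le (Nat.gcd_le_right _ hpos)
    obtain ⟨m, hm, d, hd, hdz, hfix, hdj⟩ := exists_conj B F hv (ζ := (z : G ⧸ K)) (by
      rw [heq v hv, ← heq v₀ hv₀]; exact z.2)
    refine ⟨m, hm, d, hd, hdz, hfix, ?_⟩
    rwa [show f₀ = jj K v from (jj_eq B F hv hv₀).symm]

end CfsgLib.NoDivDegrees.LOne
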